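import Groth.Agent.H10Coh.AffineAmple
import Groth.Agent.H11QMap.FTQ
import Groth.Agent.H18HTop.PhOfV
import Groth.Agent.H17.OmegaLocal
import Groth.Agent.H29Blow.IdealMod
import Groth.Agent.H16Derived.KFlat.FinLocFree
import Groth.Agent.H7Lim.ModLocFree
import Groth.Agent.H02CA.BoxRes.Main
import Groth.Prelude.Def_PerfAux

/-!
# The resolution property forces affine diagonal
-/

set_option autoImplicit false
set_option linter.style.haveILetI false
set_option backward.isDefEq.respectTransparency false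

noncomputable section

universe u

open CategoryTheory CategoryTheory.Limits AlgebraicGeometry Opposite TopologicalSpace
open Groth.Agent

namespace Groth.Agent.H14ResProp.AffineDiag

theorem exists_dual {R : Type u} [CommRing R] (M : ModuleCat.{u} R) [Module.Finite R M] [Module.Projective R M] :
    ∃ (n : ℕ) (a : Fin n → (M ⟶ ModuleCat.of R R)) (b : Fin n → (ModuleCat.of R R ⟶ M)),
      ∑ k, a k ≫ b k = 𝟙 M := by
  classical
  obtain ⟨n, m, hm⟩ := Submodule.fg_iff_exists_fin_generating_family.1 (Module.Finite.fg_top (R := R) (M := M))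
  let p := Fintype.linearCombination R m
  have hp : Function.Surjective p := by
    rw [← LinearMap.range_eq_top, Fintype.range_linearCombination]
    exact hm
  obtain ⟨σ, hσ⟩ := Module.projective_lifting_property p LinearMap.id hp
  refine ⟨n, fun k => ModuleCat.ofHom (LinearMap.proj k ∘ₗ σ),
    fun k => ModuleCat.ofHom (LinearMap.toSpanSingleton R M (m k)), ?_⟩
  refine ModuleCat.hom_ext (LinearMap.ext fun x => ?_)
  simp only [ModuleCat.hom_sum, LinearMap.sum_apply, ModuleCat.hom_comp, ModuleCat.hom_ofHom,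
    LinearMap.comp_apply, LinearMap.proj_apply, LinearMap.toSpanSingleton_apply, ModuleCat.hom_id, LinearMap.id_apply]
  exact (Fintype.linearCombination_apply R m (σ x)).symm.trans (LinearMap.congr_fun hσ x)

/-- A bundle on an affine scheme has a finite dual basis made of morphisms of modules. -/
theorem exists_dual_maps {R : CommRingCat.{u}} (G : (Spec R).Modules) [G.IsQuasicoherent]
    [Module.Finite R ((moduleSpecΓFunctor (R := R)).obj G)]
    [Module.Projective R ((moduleSpecΓFunctor (R := R)).obj G)] :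
    ∃ (n : ℕ) (l : Fin n → (G ⟶ Coh.structureModule (Spec R))) (v : Fin n → (Coh.structureModule (Spec R) ⟶ G)),
      ∑ k, l k ≫ v k = 𝟙 G := by
  classical
  obtain ⟨n, a, b, hab⟩ := exists_dual ((moduleSpecΓFunctor (R := R)).obj G)
  refine ⟨n, fun k => (H10Coh.tildeIso G).inv ≫ (tilde.functor R).map (a k) ≫ tildeSelf.hom,
    fun k => tildeSelf.inv ≫ (tilde.functor R).map (b k) ≫ (H10Coh.tildeIso G).hom, ?_⟩
  haveI : (tilde.functor R).Additive := inferInstance
  simp only [Category.assoc, Iso.hom_inv_id_assoc]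
  rw [← Preadditive.comp_sum]
  simp only [← Category.assoc ((tilde.functor R).map _)]
  rw [← Preadditive.sum_comp]
  simp only [← Functor.map_comp, ← Functor.map_sum, hab]
  erw [CategoryTheory.Functor.map_id, Category.id_comp]
  exact (H10Coh.tildeIso G).inv_hom_id

/-- If a bundle on an affine scheme has a map to the structure sheaf whose values on global sections
vanish outside `W` and which takes the value one on a section over `W`, then `W` is affine. -/
theorem isAffineOpen_of_section {R : CommRingCat.{u}} (G : (Spec R).Modules) [G.IsQuasicoherent]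
    [Module.Finite R ((moduleSpecΓFunctor (R := R)).obj G)]
    [Module.Projective R ((moduleSpecΓFunctor (R := R)).obj G)]
    (φ : G ⟶ Coh.structureModule (Spec R)) (W : (Spec R).Opens)
    (hφ : ∀ e : Γ(G, ⊤), (Spec R).basicOpen (show Γ(Spec R, ⊤) from φ.app ⊤ e) ≤ W)
    (s : Γ(G, W)) (hs : (show Γ(Spec R, W) from φ.app W s) = 1) : IsAffineOpen W := by
  obtain ⟨n, l, v, hlv⟩ := exists_dual_maps G
  let g : Fin n → Γ(Spec R, ⊤) := fun k => φ.app ⊤ ((v k).app ⊤ (show Γ(Spec R, ⊤) from 1))
  let h : Fin n → Γ(Spec R, W) := fun k => (Spec R).presheaf.map (homOfLE (le_top : W ≤ ⊤)).op (g k)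
  refine isAffineOpen_of_isAffineOpen_basicOpen W (Set.range h) ?_ ?_
  · rw [Ideal.eq_top_iff_one, ← hs]
    have h1 : s = ∑ k, (v k).app W ((l k).app W s) := by
      let ev : (G ⟶ G) →+ Γ(G, W) := AddMonoidHom.mk' (fun f => f.app W s) fun f f' => by simp
      have := congrArg ev hlv
      rw [map_sum] at this
      exact this.symm
    rw [h1, map_sum]
    refine Ideal.sum_mem _ fun k _ => ?_
    have h2 : ∀ r : Γ(Spec R, W), (show Γ(Spec R, W) from φ.app W ((v k).app W r)) = r * h k := by
      intro r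
      have h3 : (v k ≫ φ).app W r = r • (v k ≫ φ).app W (show Γ(Spec R, W) from 1) := by
        rw [← Scheme.Modules.Hom.app_smul]
        exact congrArg _ (mul_one r).symm
      have h4 : (v k ≫ φ).app W (show Γ(Spec R, W) from 1) = (h k : Γ(Coh.structureModule (Spec R), W)) := by
        have := congr($((v k ≫ φ).mapPresheaf.naturality (homOfLE (le_top : W ≤ ⊤)).op) (show Γ(Spec R, ⊤) from 1))
        refine Eq.trans ?_ this
        exact congrArg _ (map_one ((Spec R).presheaf.map (homOfLE (le_top : W ≤ ⊤)).op).hom).symm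
      exact h3.trans (congrArg (r • ·) h4)
    exact Eq.subst (motive := fun z : Γ(Spec R, W) => z ∈ Ideal.span (Set.range h)) (h2 _).symm
      (Ideal.mul_mem_left _ _ (Ideal.subset_span ⟨k, rfl⟩))
  · rintro _ ⟨k, rfl⟩
    rw [Scheme.basicOpen_res, inf_eq_right.2 (hφ _)]
    exact (isAffineOpen_top (Spec R)).basicOpen _


/-- Global sections of a bundle on an affine scheme. -/
theorem finite_projective_Γ {R : CommRingCat.{u}} (G : (Spec R).Modules) (h : FlatMod.IsFinLocFree G) :
    Module.Finite R ((moduleSpecΓFunctor (R := R)).obj G) ∧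
      Module.Projective R ((moduleSpecΓFunctor (R := R)).obj G) := by
  obtain ⟨hf, hp⟩ := H8Props.FinLocFree.finite_projective_sections G h (isAffineOpen_top (Spec R))
  let e : R ≃+* Γ(Spec R, ⊤) := (Scheme.ΓSpecIso R).commRingCatIsoToRingEquiv.symm
  haveI i1 : RingHomInvPair e.symm.toRingHom e.toRingHom := RingHomInvPair.of_ringEquiv e.symm
  haveI i2 : RingHomInvPair e.toRingHom e.symm.toRingHom := RingHomInvPair.of_ringEquiv e
  let f : Γ(G, ⊤) ≃ₛₗ[e.symm.toRingHom] ((moduleSpecΓFunctor (R := R)).obj G) :=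
    { AddEquiv.refl Γ(G, ⊤) with
      map_smul' := fun a x => by
        show a • x = e (e.symm a) • x
        rw [RingEquiv.apply_symm_apply] }
  haveI := hf
  haveI := hp
  exact ⟨Module.Finite.of_surjective f.toLinearMap f.surjective, Module.Projective.of_equiv f⟩

variable {X : Scheme.{u}}

/-- Where a section of an ideal is invertible the ideal is trivial. -/
theorem basicOpen_idealSect_le (K : X.IdealSheafData) (U : X.Opens) (hK' : (U : Set X)ᶜ ⊆ K.support) (O : X.Opens) (m : Γ(ClSub.idealMod K, O)) :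
    X.basicOpen (OmegaSh.idealSect K O m) ≤ U := by
  intro x hx
  by_contra hxU
  have hxO : x ∈ O := X.basicOpen_le _ hx
  obtain ⟨A, hA, hxA, hAO⟩ := exists_isAffineOpen_mem_and_subset (X := X) (x := x) (U := O) hxO
  have hmem : OmegaSh.idealSect K A ((ClSub.idealMod K).presheaf.map (homOfLE hAO).op m) ∈ K.ideal ⟨A, hA⟩ :=
    (H29Blow.mem_ideal_iff_exists_idealSect K hA _).2 ⟨_, rfl⟩
  have h0 := (Scheme.IdealSheafData.mem_support_iff_of_mem (U := ⟨A, hA⟩) hxA).1 (hK' hxU)
  rw [Scheme.mem_zeroLocus_iff] at h0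
  refine h0 _ hmem ((congrArg (fun a => x ∈ X.basicOpen a) (H29Blow.idealSect_res K hAO m)).mpr ?_)
  rw [Scheme.basicOpen_res]
  exact ⟨hxA, hx⟩

/-- A qcqs scheme with the resolution property has affine diagonal. -/
theorem isAffineOpen_inf [CompactSpace X] [QuasiSeparatedSpace X] (hX : PerfAux.HasResolutionProperty X)
    {U V : X.Opens} (hU : IsAffineOpen U) (hV : IsAffineOpen V) : IsAffineOpen (U ⊓ V) := by
  classical
  obtain ⟨K, hKfg, hKsupp⟩ := H18HTop.PhOfV.exists_ftIdeal_support_eq_compl ({()} : Finset Unit) (fun _ => U)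
    (fun _ => hU)
  have hKU : (K.support : Set X) = (U : Set X)ᶜ := by simpa [Set.iInter_const] using hKsupp
  choose A hA hxA using fun y : X => exists_isAffineOpen_mem_and_subset (X := X) (x := y) (U := ⊤) trivial
  obtain ⟨T, hT⟩ := CompactSpace.elim_nhds_subcover (fun y => (A y : Set X))
    (fun y => (A y).isOpen.mem_nhds (hxA y).1)
  choose gs hgs using fun y : X => hKfg ⟨A y, hA y⟩
  have hmemgs : ∀ y, ∀ g ∈ gs y, ∃ m, OmegaSh.idealSect K (A y) m = g := fun y g hg =>
    (H29Blow.mem_ideal_iff_exists_idealSect K (hA y) g).1 ((hgs y).le (Ideal.subset_span hg))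
  choose m hm using hmemgs
  haveI hIq : (ClSub.idealMod K).IsQuasicoherent := H17.OmegaLocal.isQuasicoherent_idealMod K
  let l : List (Σ W : X.affineOpens, Γ(ClSub.idealMod K, W.1)) :=
    T.toList.flatMap fun y => (gs y).attach.toList.map fun g => ⟨⟨A y, hA y⟩, m y g.1 g.2⟩
  obtain ⟨E₀, hE₀q, hE₀f, ι, -, hmem⟩ := H11QMap.exists_ft_submodule (ClSub.idealMod K) hIq l
  obtain ⟨E, π, hE, hπ⟩ := hX E₀ hE₀q hE₀f
  haveI := hπ
  haveI hEq : E.IsQuasicoherent := H8Props.FinLocFree.isQCoh_of_isFinLocFree E hE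
  haveI : E₀.IsQuasicoherent := hE₀q
  let φ : E ⟶ Coh.structureModule X := π ≫ ι ≫ ClSub.idealModι K
  have hval : ∀ (O : X.Opens) (e : Γ(E, O)), X.basicOpen (show Γ(X, O) from φ.app O e) ≤ U :=
    fun O e => basicOpen_idealSect_le K U hKU.ge O ((π ≫ ι).app O e)
  have hloc : ∀ x ∈ U, ∃ (O : X.Opens) (e : Γ(E, O)), x ∈ O ∧ (show Γ(X, O) from φ.app O e) = 1 := by
    intro x hx
    obtain ⟨y, hy, hxy⟩ := Set.mem_iUnion₂.1 (hT.ge (Set.mem_univ x))
    have hns : x ∉ X.zeroLocus (U := A y) ((gs y : Set Γ(X, A y))) := by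
      rw [← Scheme.zeroLocus_span, show Ideal.span (gs y : Set Γ(X, A y)) = K.ideal ⟨A y, hA y⟩ from hgs y,
        ← Scheme.IdealSheafData.mem_support_iff_of_mem (U := ⟨A y, hA y⟩) hxy, ← SetLike.mem_coe, hKU]
      exact fun h => h hx
    rw [Scheme.mem_zeroLocus_iff] at hns
    push Not at hns
    obtain ⟨g, hg, hxg⟩ := hns
    obtain ⟨a, ha⟩ := hmem ⟨⟨A y, hA y⟩, m y g hg⟩ (List.mem_flatMap.2 ⟨y, Finset.mem_toList.2 hy,
      List.mem_map.2 ⟨⟨g, hg⟩, Finset.mem_toList.2 (Finset.mem_attach _ _), rfl⟩⟩)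
    let O := X.basicOpen g
    have hO : O ≤ A y := X.basicOpen_le g
    obtain ⟨e, he⟩ := H10Coh.surjective_app_of_epi π ((hA y).basicOpen g) (E₀.presheaf.map (homOfLE hO).op a)
    have hu : IsUnit (X.presheaf.map (homOfLE hO).op g) :=
      X.toRingedSpace.isUnit_res_basicOpen g
    obtain ⟨u, hu⟩ := hu
    refine ⟨O, (↑u⁻¹ : Γ(X, O)) • e, hxg, ?_⟩
    have he1 : (show Γ(X, O) from φ.app O e) = X.presheaf.map (homOfLE hO).op g := by
      show OmegaSh.idealSect K O (ι.app O (π.app O e)) = _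
      rw [he, H11Tilde.app_map_apply, ha, H29Blow.idealSect_res, hm y g hg]
    show (show Γ(X, O) from φ.app O ((↑u⁻¹ : Γ(X, O)) • e)) = 1
    rw [Scheme.Modules.Hom.app_smul]
    show (↑u⁻¹ : Γ(X, O)) * (show Γ(X, O) from φ.app O e) = 1
    rw [he1, ← hu, Units.inv_mul]
  -- a section over `U` with value one
  obtain ⟨s₀, hs₀⟩ : ∃ s₀ : Γ(E, U), (show Γ(X, U) from φ.app U s₀) = 1 := by
    let r := Scheme.Modules.restrictFunctor hU.fromSpec
    haveI : (r.obj E).IsQuasicoherent := Scheme.Modules.isQuasicoherent_restrictFunctor _ E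
    haveI : (r.obj (Coh.structureModule X)).IsQuasicoherent :=
      haveI : (Coh.structureModule X).IsQuasicoherent := H10Coh.isQuasicoherent_unit
      Scheme.Modules.isQuasicoherent_restrictFunctor _ _
    haveI : Epi (r.map φ) := by
      refine H11Tilde.epi_of_locally_surjective _ fun W t z hz => ?_
      have hzU : hU.fromSpec z ∈ U := hU.range_fromSpec.le ⟨z, rfl⟩
      obtain ⟨O, e, hzO, he⟩ := hloc _ hzU
      let W' := W ⊓ hU.fromSpec ⁻¹ᵁ O
      have hW'O : hU.fromSpec ''ᵁ W' ≤ O := by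
        rintro _ ⟨w, hw, rfl⟩; exact hw.2
      refine ⟨W', inf_le_left, ⟨hz, hzO⟩,
        (show Γ(X, hU.fromSpec ''ᵁ W') from
          X.presheaf.map (homOfLE (hU.fromSpec.image_mono inf_le_left)).op t) •
          E.presheaf.map (homOfLE hW'O).op e, ?_⟩
      show φ.app (hU.fromSpec ''ᵁ W') _ = _
      rw [Scheme.Modules.Hom.app_smul, H11Tilde.app_map_apply]
      show (show Γ(X, hU.fromSpec ''ᵁ W') from X.presheaf.map _ t) *
        X.presheaf.map (homOfLE hW'O).op (show Γ(X, O) from φ.app O e) = X.presheaf.map _ t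
      rw [he, map_one, mul_one]
      rfl
    have hUe : hU.fromSpec ''ᵁ ⊤ = U := by
      rw [Scheme.Hom.image_top_eq_opensRange, hU.opensRange_fromSpec]
    obtain ⟨s, hs⟩ := H10Coh.epi_sections_Spec (r.map φ) (1 : Γ(X, hU.fromSpec ''ᵁ ⊤))
    refine ⟨E.presheaf.map (homOfLE hUe.ge).op s, ?_⟩
    rw [H11Tilde.app_map_apply]
    exact (congrArg (X.presheaf.map (homOfLE hUe.ge).op) hs).trans (map_one _)
  -- descend to the affine scheme `V`
  let j := hV.fromSpec
  let r := Scheme.Modules.restrictFunctor j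
  let G := r.obj E
  haveI : G.IsQuasicoherent := Scheme.Modules.isQuasicoherent_restrictFunctor _ E
  have hG : FlatMod.IsFinLocFree G := H7Lim.ModLocFree.isFinLocFree_of_iso
    ((Scheme.Modules.restrictFunctorIsoPullback j).app E).symm (H16Derived.KFlat.Stalk.isFinLocFree_pullback j hE)
  obtain ⟨hfin, hproj⟩ := finite_projective_Γ G hG
  haveI := hfin
  haveI := hproj
  let φ' : G ⟶ Coh.structureModule (Spec Γ(X, V)) := r.map φ ≫ (Scheme.Modules.restrictUnitIso j).hom
  have happ : ∀ (W : (Spec Γ(X, V)).Opens) (e : Γ(G, W)),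
      (show Γ(Spec Γ(X, V), W) from φ'.app W e) = (j.appIso W).hom (show Γ(X, j ''ᵁ W) from φ.app (j ''ᵁ W) e) :=
    fun W e => rfl
  let W := j ⁻¹ᵁ U
  have hle : j ''ᵁ W ≤ U := j.image_preimage_le U
  have haff : IsAffineOpen W := by
    refine isAffineOpen_of_section G φ' W (fun e => ?_) (E.presheaf.map (homOfLE hle).op s₀) ?_
    · rw [happ]
      refine le_trans ?_ (j.preimage_mono (hval (j ''ᵁ ⊤) e))
      rw [Scheme.Hom.appIso_hom]
      erw [CommRingCat.comp_apply, Scheme.basicOpen_res_eq, ← Scheme.preimage_basicOpen]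
    · rw [happ, H11Tilde.app_map_apply]
      refine (congrArg (j.appIso W).hom ((congrArg (X.presheaf.map (homOfLE hle).op) hs₀).trans (map_one _))).trans ?_
      exact map_one _
  have := haff.image_of_isOpenImmersion j
  rwa [Scheme.Hom.image_preimage_eq_opensRange_inf, hV.opensRange_fromSpec, inf_comm] at this

end Groth.Agent.H14ResProp.AffineDiag
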