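import Mathlib.Algebra.Module.FinitePresentation
import Mathlib.LinearAlgebra.Matrix.NonsingularInverse
import Mathlib.LinearAlgebra.Matrix.ToLinearEquiv
import Mathlib.RingTheory.Ideal.AssociatedPrime.Basic
import Mathlib.RingTheory.Ideal.Height
import Mathlib.RingTheory.Ideal.MinimalPrime.Noetherian
import Mathlib.RingTheory.Ideal.KrullsHeightTheorem
import Mathlib.RingTheory.LocalRing.ResidueField.Ideal
import Mathlib.RingTheory.Spectrum.Prime.Basic
import Mathlib.LinearAlgebra.Dimension.StrongRankCondition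
import Mathlib.LinearAlgebra.Dimension.Constructions
import Mathlib.LinearAlgebra.FiniteDimensional.Lemmas

/-!
# Basic elements of modules which are free at the primes of small height
-/

set_option autoImplicit false

universe u

open Module

noncomputable section

namespace Groth.Agent.H14ResProp

variable {A : Type u} [CommRing A] {M : Type u} [AddCommGroup M] [Module A M]

/-- A trivialisation of the localisation at a prime. -/
structure FreeAt (A : Type u) [CommRing A] (M : Type u) [AddCommGroup M] [Module A M]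
    (p : PrimeSpectrum A) (r : ℕ) where
  /-- the localisation map -/
  l : M →ₗ[A] (Fin r → Localization.AtPrime p.asIdeal)
  isLoc : IsLocalizedModule p.asIdeal.primeCompl l

variable {p : PrimeSpectrum A} {r : ℕ}

lemma FreeAt.nonempty (e : Nonempty (LocalizedModule p.asIdeal.primeCompl M
    ≃ₗ[Localization.AtPrime p.asIdeal] (Fin r → Localization.AtPrime p.asIdeal))) :
    Nonempty (FreeAt A M p r) := by
  obtain ⟨e⟩ := e
  exact ⟨⟨(e.restrictScalars A).toLinearMap ∘ₗ LocalizedModule.mkLinearMap _ M,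
    IsLocalizedModule.of_linearEquiv _ _ (e.restrictScalars A)⟩⟩

lemma FreeAt.nonempty_iso (F : FreeAt A M p r) :
    Nonempty (LocalizedModule p.asIdeal.primeCompl M
      ≃ₗ[Localization.AtPrime p.asIdeal] (Fin r → Localization.AtPrime p.asIdeal)) :=
  haveI := F.isLoc
  ⟨(IsLocalizedModule.iso p.asIdeal.primeCompl F.l).extendScalarsOfIsLocalization
    p.asIdeal.primeCompl (Localization.AtPrime p.asIdeal)⟩

variable (F : FreeAt A M p r)

local notation "κ" => Ideal.ResidueField p.asIdeal
local notation "res" => IsLocalRing.residue (Localization.AtPrime p.asIdeal)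

/-- The value in the fibre. -/
def FreeAt.val : M →ₗ[A] (Fin r → Ideal.ResidueField p.asIdeal) :=
  LinearMap.pi fun i =>
    (IsScalarTower.toAlgHom A (Localization.AtPrime p.asIdeal)
      (Ideal.ResidueField p.asIdeal)).toLinearMap ∘ₗ LinearMap.proj i ∘ₗ F.l

lemma FreeAt.val_apply (m : M) (i : Fin r) : F.val m i = res (F.l m i) := rfl

lemma FreeAt.smul_val (a : A) (m : M) : F.val (a • m) = algebraMap A κ a • F.val m := by
  rw [map_smul, algebraMap_smul]

lemma FreeAt.span_range_val : Submodule.span κ (Set.range F.val) = ⊤ := by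
  haveI := F.isLoc
  refine eq_top_iff.2 fun x _ => ?_
  choose y hy using fun i => IsLocalRing.residue_surjective (x i)
  obtain ⟨⟨m, s⟩, hm⟩ := IsLocalizedModule.surj p.asIdeal.primeCompl F.l y
  have hs : algebraMap A κ s.1 ≠ 0 := fun h => s.2 (Ideal.algebraMap_residueField_eq_zero.1 h)
  have : x = (algebraMap A κ s.1)⁻¹ • F.val m := by
    rw [eq_inv_smul_iff₀ hs]
    funext i
    rw [F.val_apply, ← hm]
    simp only [Submonoid.smul_def, Pi.smul_apply, Algebra.smul_def, map_mul, hy, smul_eq_mul]
    rfl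
  rw [this]
  exact Submodule.smul_mem _ _ (Submodule.subset_span ⟨m, rfl⟩)

lemma FreeAt.exists_det [IsNoetherianRing A] [Module.Finite A M] {t : ℕ} (v : Fin t → M)
    (hv : LinearIndependent κ (F.val ∘ v)) :
    ∃ ψ : Fin t → (M →ₗ[A] A), (Matrix.of fun a b => ψ a (v b)).det ∉ p.asIdeal := by
  classical
  haveI : Module.FinitePresentation A M := Module.finitePresentation_of_finite A M
  obtain ⟨g, hg⟩ := LinearMap.exists_leftInverse_of_injective (Fintype.linearCombination κ (F.val ∘ v))
    (Fintype.linearIndependent_iff.1 hv |> fun h => LinearMap.ker_eq_bot'.2 fun c hc => funext fun i =>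
      h c (by simpa [Fintype.linearCombination_apply] using hc) i)
  choose G hG using fun (a : Fin t) (j : Fin r) =>
    IsLocalRing.residue_surjective (R := Localization.AtPrime p.asIdeal)
      (g (Pi.single j 1) a)
  let φ : Fin t → (M →ₗ[A] Localization.AtPrime p.asIdeal) := fun a =>
    ((∑ j, G a j • LinearMap.proj j : (Fin r → Localization.AtPrime p.asIdeal) →ₗ[Localization.AtPrime p.asIdeal]
      Localization.AtPrime p.asIdeal).restrictScalars A) ∘ₗ F.l
  have hφ : ∀ a b, res (φ a (v b)) = if a = b then 1 else 0 := by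
    intro a b
    have h1 : g (F.val (v b)) = Pi.single b 1 := by
      have := LinearMap.congr_fun hg (Pi.single b 1)
      simpa [Fintype.linearCombination_apply_single] using this
    calc res (φ a (v b)) = ∑ j, F.val (v b) j * g (Pi.single j 1) a := by
          simp [φ, map_sum, hG, F.val_apply, mul_comm]
      _ = g (∑ j, F.val (v b) j • Pi.single j 1) a := by simp [map_sum, map_smul]
      _ = g (F.val (v b)) a := by
          have e : ∑ j, F.val (v b) j • Pi.single j (1 : κ) = F.val (v b) := by
            funext i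
            simp [Pi.single_apply]
          rw [e]
      _ = _ := by rw [h1, Pi.single_apply]
  choose ψ s hψ using fun a => Module.FinitePresentation.exists_lift_of_isLocalizedModule
    p.asIdeal.primeCompl (Algebra.linearMap A (Localization.AtPrime p.asIdeal)) (φ a)
  refine ⟨ψ, fun h => ?_⟩
  rw [← Ideal.algebraMap_residueField_eq_zero, RingHom.map_det] at h
  have : (algebraMap A κ).mapMatrix (Matrix.of fun a b => ψ a (v b)) =
      Matrix.diagonal fun a => algebraMap A κ (s a).1 := by
    ext a b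
    have h1 := congrArg res (LinearMap.congr_fun (hψ a) (v b))
    simp only [LinearMap.comp_apply, Algebra.linearMap_apply, LinearMap.smul_apply,
      Submonoid.smul_def, Algebra.smul_def, map_mul, hφ] at h1
    refine (IsScalarTower.algebraMap_apply A (Localization.AtPrime p.asIdeal) κ _).trans
      (h1.trans ?_)
    rw [Matrix.diagonal_apply]
    split_ifs <;> simp [IsScalarTower.algebraMap_apply A (Localization.AtPrime p.asIdeal) κ]
  rw [this, Matrix.det_diagonal] at h
  obtain ⟨a, -, ha⟩ := Finset.prod_eq_zero_iff.1 h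
  exact (s a).2 (Ideal.algebraMap_residueField_eq_zero.1 ha)

lemma FreeAt.linearIndependent_of_det {t : ℕ} (v : Fin t → M) (ψ : Fin t → (M →ₗ[A] A))
    (h : (Matrix.of fun a b => ψ a (v b)).det ∉ p.asIdeal) :
    LinearIndependent κ (F.val ∘ v) := by
  classical
  haveI := F.isLoc
  let L : Fin t → ((Fin r → Localization.AtPrime p.asIdeal) →ₗ[A] Localization.AtPrime p.asIdeal) :=
    fun a => IsLocalizedModule.map p.asIdeal.primeCompl F.l
      (Algebra.linearMap A (Localization.AtPrime p.asIdeal)) (ψ a)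
  let L' : Fin t → ((Fin r → Localization.AtPrime p.asIdeal) →ₗ[Localization.AtPrime p.asIdeal]
      Localization.AtPrime p.asIdeal) :=
    fun a => (L a).extendScalarsOfIsLocalization p.asIdeal.primeCompl _
  let ψ' : Fin t → ((Fin r → κ) →ₗ[κ] κ) := fun a =>
    ∑ j, res (L' a (Pi.single j 1)) • LinearMap.proj j
  have hψ : ∀ a m, ψ' a (F.val m) = algebraMap A κ (ψ a m) := by
    intro a m
    have h1 : L' a (F.l m) = algebraMap A _ (ψ a m) := IsLocalizedModule.map_apply _ _ _ _ _
    have h2 : F.l m = ∑ j, F.l m j • Pi.single j (1 : Localization.AtPrime p.asIdeal) := by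
      funext i
      simp [Pi.single_apply]
    rw [IsScalarTower.algebraMap_apply A (Localization.AtPrime p.asIdeal) κ, ← h1]
    conv_rhs => rw [h2, map_sum]
    simp [ψ', F.val_apply, mul_comm, map_sum]
  rw [Fintype.linearIndependent_iff]
  intro c hc
  refine congrFun (Matrix.eq_zero_of_mulVec_eq_zero (M := (algebraMap A κ).mapMatrix
    (Matrix.of fun a b => ψ a (v b))) ?_ (funext fun a => ?_))
  · rw [← RingHom.map_det]
    exact fun e => h (Ideal.algebraMap_residueField_eq_zero.1 e)
  · have := congrArg (ψ' a) hc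
    simp only [map_sum, map_smul, map_zero, Function.comp_apply, hψ, smul_eq_mul] at this
    simpa [Matrix.mulVec, dotProduct, mul_comm] using this

variable {s : ℕ}

/-- The rank of the span in the fibre. -/
def FreeAt.rk (m : Fin s → M) : ℕ :=
  finrank κ (Submodule.span κ (Set.range (F.val ∘ m)))

lemma FreeAt.le_rk_of_linearIndependent (m : Fin s → M) {t : ℕ} (e : Fin t → Fin s)
    (h : LinearIndependent κ (F.val ∘ m ∘ e)) : t ≤ F.rk m := by
  have h1 := finrank_span_eq_card h
  rw [Fintype.card_fin] at h1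
  rw [← h1]
  exact Submodule.finrank_mono (Submodule.span_mono (Set.range_comp_subset_range e (F.val ∘ m)))

lemma FreeAt.exists_indep (m : Fin s → M) {t : ℕ} (h : t ≤ F.rk m) :
    ∃ e : Fin t → Fin s, LinearIndependent κ (F.val ∘ m ∘ e) := by
  obtain ⟨f, hf, -, hi⟩ := Submodule.exists_fun_fin_finrank_span_eq κ (Set.range (F.val ∘ m))
  choose e he using hf
  refine ⟨e ∘ Fin.castLE h, ?_⟩
  have : F.val ∘ m ∘ (e ∘ Fin.castLE h) = f ∘ Fin.castLE h := funext fun i => he _
  rw [this]
  exact hi.comp _ (Fin.castLE_injective h)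

lemma FreeAt.rk_le (m : Fin s → M) : F.rk m ≤ s :=
  le_of_le_of_eq (finrank_range_le_card (R := κ) (F.val ∘ m)) (Fintype.card_fin s)

lemma exists_modify {K : Type*} [Field K] {V : Type*} [AddCommGroup V] [Module K V]
    [FiniteDimensional K V] {s : ℕ} (v : Fin (s + 1) → V)
    (hle : finrank K (Submodule.span K (Set.range v)) ≤ s) :
    ∃ (c : Fin s → K) (e : K), (c ≠ 0 ∨ e ≠ 0) ∧ ∀ a : Fin s → K, e + ∑ i, c i * a i ≠ 0 →
      Submodule.span K (Set.range fun i : Fin s => v i.castSucc + a i • v (Fin.last s)) =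
        Submodule.span K (Set.range v) := by
  have hdep : ¬ LinearIndependent K v := fun h => by
    rw [finrank_span_eq_card h, Fintype.card_fin] at hle
    omega
  obtain ⟨g, hg, i, hi⟩ := Fintype.not_linearIndependent_iff.1 hdep
  rw [Fin.sum_univ_castSucc] at hg
  refine ⟨fun i => g i.castSucc, - g (Fin.last s), ?_, fun a ha => ?_⟩
  · by_contra! h
    refine hi ?_
    induction i using Fin.lastCases with
    | last => simpa using h.2
    | cast j => exact congrFun h.1 j
  · refine le_antisymm (Submodule.span_le.2 ?_) (Submodule.span_le.2 ?_)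
    · rintro _ ⟨i, rfl⟩
      exact add_mem (Submodule.subset_span ⟨_, rfl⟩)
        (Submodule.smul_mem _ _ (Submodule.subset_span ⟨_, rfl⟩))
    · have hw : v (Fin.last s) ∈
          Submodule.span K (Set.range fun i : Fin s => v i.castSucc + a i • v (Fin.last s)) := by
        have h1 : ∑ i, g i.castSucc • (v i.castSucc + a i • v (Fin.last s)) =
            (- g (Fin.last s) + ∑ i, g i.castSucc * a i) • v (Fin.last s) := by
          simp only [smul_add, Finset.sum_add_distrib, add_smul, smul_smul, Finset.sum_smul, neg_smul]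
          rw [eq_neg_of_add_eq_zero_left hg]
        have h2 : ∑ i, g i.castSucc • (v i.castSucc + a i • v (Fin.last s)) ∈
            Submodule.span K (Set.range fun i : Fin s => v i.castSucc + a i • v (Fin.last s)) :=
          Submodule.sum_mem _ fun i _ => Submodule.smul_mem _ _ (Submodule.subset_span ⟨i, rfl⟩)
        rw [h1] at h2
        exact (Submodule.smul_mem_iff _ ha).1 h2
      rintro _ ⟨i, rfl⟩
      induction i using Fin.lastCases with
      | last => exact hw
      | cast j =>
        rw [show v j.castSucc = (v j.castSucc + a j • v (Fin.last s)) - a j • v (Fin.last s) by abel]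
        exact sub_mem (Submodule.subset_span ⟨j, rfl⟩) (Submodule.smul_mem _ _ hw)

lemma finrank_le_modify {K : Type*} [Field K] {V : Type*} [AddCommGroup V] [Module K V]
    [FiniteDimensional K V] {s : ℕ} (v : Fin (s + 1) → V) (a : Fin s → K) :
    finrank K (Submodule.span K (Set.range v)) ≤
      finrank K (Submodule.span K (Set.range fun i : Fin s => v i.castSucc + a i • v (Fin.last s))) + 1 := by
  set N := Submodule.span K (Set.range fun i : Fin s => v i.castSucc + a i • v (Fin.last s))
  have h1 : Submodule.span K (Set.range v) ≤ N ⊔ Submodule.span K {v (Fin.last s)} := by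
    refine Submodule.span_le.2 ?_
    rintro _ ⟨i, rfl⟩
    induction i using Fin.lastCases with
    | last => exact Submodule.mem_sup_right (Submodule.mem_span_singleton_self _)
    | cast j =>
      rw [show v j.castSucc = (v j.castSucc + a j • v (Fin.last s)) + (- a j) • v (Fin.last s) by
        rw [neg_smul]; abel]
      exact Submodule.add_mem_sup (Submodule.subset_span ⟨j, rfl⟩)
        (Submodule.smul_mem _ _ (Submodule.mem_span_singleton_self _))
  refine (Submodule.finrank_mono h1).trans ((Submodule.finrank_add_le_finrank_add_finrank _ _).trans ?_)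
  gcongr
  exact (finrank_span_le_card _).trans (by simp)

/-- Simultaneous avoidance of affine hyperplanes in the fibres at finitely many primes. -/
lemma exists_avoid {n : ℕ} {ι : Type*} (B : Finset ι) (P : ι → PrimeSpectrum A)
    (hP : Set.InjOn P B) (c : ∀ i, Fin n → (P i).asIdeal.ResidueField)
    (e : ∀ i, (P i).asIdeal.ResidueField) (h : ∀ i ∈ B, c i ≠ 0 ∨ e i ≠ 0) :
    ∃ a : Fin n → A, ∀ i ∈ B, e i + ∑ j, c i j * algebraMap A _ (a j) ≠ 0 := by
  classical
  induction B using Finset.strongInduction with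
  | _ B ih =>
    rcases B.eq_empty_or_nonempty with rfl | hne
    · exact ⟨0, by simp⟩
    obtain ⟨i₀, hi₀, hmin⟩ := B.exists_minimalFor P hne
    obtain ⟨a, ha⟩ := ih (B.erase i₀) (Finset.erase_ssubset hi₀)
      (hP.mono (by simp)) (fun i hi => h i (Finset.mem_of_mem_erase hi))
    by_cases hgood : e i₀ + ∑ j, c i₀ j * algebraMap A _ (a j) ≠ 0
    · refine ⟨a, fun i hi => ?_⟩
      rcases eq_or_ne i i₀ with rfl | hne'
      · exact hgood
      · exact ha i (Finset.mem_erase.2 ⟨hne', hi⟩)
    rw [not_not] at hgood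
    have hnle : ∀ i ∈ B.erase i₀, ¬ (P i).asIdeal ≤ (P i₀).asIdeal := fun i hi hle => by
      obtain ⟨hne', hiB⟩ := Finset.mem_erase.1 hi
      exact hne' (hP hiB hi₀ (le_antisymm hle (hmin hiB hle)))
    choose y hy hy' using fun (i : ι) (hi : i ∈ B.erase i₀) => SetLike.not_le_iff_exists.1 (hnle i hi)
    let Y : A := ∏ i ∈ (B.erase i₀).attach, y i.1 i.2
    have hY : Y ∉ (P i₀).asIdeal := fun hh => by
      obtain ⟨i, -, hi⟩ := ((P i₀).isPrime.prod_mem_iff).1 hh
      exact hy' i.1 i.2 hi
    obtain ⟨j₀, hj₀⟩ : ∃ j, c i₀ j ≠ 0 := by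
      by_contra! hall
      have hc : c i₀ = 0 := funext hall
      rcases h i₀ hi₀ with h1 | h1
      · exact h1 hc
      · exact h1 (by simpa [hc] using hgood)
    refine ⟨Function.update a j₀ (a j₀ + Y), fun i hi => ?_⟩
    have hsum : ∀ i, e i + ∑ j, c i j * algebraMap A _ (Function.update a j₀ (a j₀ + Y) j) =
        (e i + ∑ j, c i j * algebraMap A _ (a j)) + c i j₀ * algebraMap A _ Y := by
      intro i
      rw [add_assoc, ← Fintype.sum_ite_eq' j₀ (fun j => c i j * algebraMap A _ Y),
        ← Finset.sum_add_distrib]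
      refine congrArg (e i + ·) (Finset.sum_congr rfl fun j _ => ?_)
      rcases eq_or_ne j j₀ with rfl | hj
      · simp [mul_add]
      · simp [hj]
    rw [hsum]
    rcases eq_or_ne i i₀ with rfl | hne'
    · rw [hgood, zero_add]
      exact mul_ne_zero hj₀ fun hh => hY (Ideal.algebraMap_residueField_eq_zero.1 hh)
    · have hi' := Finset.mem_erase.2 ⟨hne', hi⟩
      have : algebraMap A (P i).asIdeal.ResidueField Y = 0 := Ideal.algebraMap_residueField_eq_zero.2
        (Ideal.mem_of_dvd _ (Finset.dvd_prod_of_mem (fun i : {x // x ∈ B.erase i₀} => y i.1 i.2)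
          (Finset.mem_attach _ ⟨i, hi'⟩)) (hy i hi'))
      rw [this, mul_zero, add_zero]
      exact ha i hi'

variable [IsNoetherianRing A] [Module.Finite A M] {k : ℕ}

/-- The rank required at a prime from a family of `s` elements. -/
def need (k : ℕ) (p : PrimeSpectrum A) (s : ℕ) : ℕ := min s (k + 1 - p.asIdeal.height.toNat)

lemma toNat_le {p : PrimeSpectrum A} (hp : p.asIdeal.height ≤ k) : p.asIdeal.height.toNat ≤ k :=
  ENat.toNat_le_of_le_coe hp

lemma toNat_lt {p q : PrimeSpectrum A} (hp : p.asIdeal.height ≤ k) (hqp : q.asIdeal < p.asIdeal) :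
    q.asIdeal.height ≤ k ∧ q.asIdeal.height.toNat < p.asIdeal.height.toNat := by
  have hp' : p.asIdeal.height ≠ ⊤ := ne_top_of_le_ne_top (by simp) hp
  haveI : p.asIdeal.FiniteHeight := ⟨Or.inr hp'⟩
  have h := Ideal.height_strict_mono_of_isPrime_of_isPrime hqp
  refine ⟨h.le.trans hp, ?_⟩
  obtain ⟨a, ha⟩ := ENat.ne_top_iff_exists.1 h.ne_top
  obtain ⟨b, hb⟩ := ENat.ne_top_iff_exists.1 hp'
  rw [← ha, ← hb] at h ⊢
  simpa using h

variable (Φ : ∀ p : PrimeSpectrum A, p.asIdeal.height ≤ k → FreeAt A M p r)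

lemma finite_bad (m : Fin (s + 1) → M)
    (hm : ∀ p hp, need k p (s + 1) ≤ (Φ p hp).rk m) :
    {p : PrimeSpectrum A | ∃ hp, (Φ p hp).rk m = need k p s}.Finite := by
  suffices ∀ t, {p : PrimeSpectrum A | ∃ hp, (Φ p hp).rk m = need k p s ∧ need k p s = t}.Finite by
    refine ((Finset.range (s + 1)).finite_toSet.biUnion fun t _ => this t).subset ?_
    rintro p ⟨hp, h⟩
    exact Set.mem_biUnion (Finset.mem_range.2 (Nat.lt_succ_of_le (min_le_left _ _))) ⟨hp, h, rfl⟩
  intro t
  set B := {p : PrimeSpectrum A | ∃ hp, (Φ p hp).rk m = need k p s ∧ need k p s = t}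
  refine (Set.Finite.preimage (f := PrimeSpectrum.asIdeal) (fun a _ b _ h => PrimeSpectrum.ext h)
    (Ideal.finite_minimalPrimes_of_isNoetherianRing A (⨅ p ∈ B, PrimeSpectrum.asIdeal p))).subset ?_
  rintro p ⟨hp, hrk, ht⟩
  rw [Set.mem_preimage]
  obtain ⟨q, hq, hqp⟩ := Ideal.exists_minimalPrimes_le
    (show (⨅ p ∈ B, PrimeSpectrum.asIdeal p) ≤ p.asIdeal from iInf₂_le p ⟨hp, hrk, ht⟩)
  rcases eq_or_lt_of_le hqp with he | hlt
  · exact he ▸ hq
  exfalso
  haveI := hq.isPrime
  obtain ⟨hqh, hqn⟩ := toNat_lt hp (show (⟨q, hq.isPrime⟩ : PrimeSpectrum A).asIdeal < p.asIdeal from hlt)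
  have hgt : t + 1 ≤ (Φ ⟨q, hq.isPrime⟩ hqh).rk m := by
    refine le_trans ?_ (hm _ hqh)
    have := hm p hp
    have := toNat_le hp
    have := toNat_le hqh
    simp only [need] at *
    omega
  obtain ⟨e, he⟩ := FreeAt.exists_indep _ m hgt
  obtain ⟨ψ, hψ⟩ := FreeAt.exists_det _ _ he
  refine hψ ((hq.1.2 : (⨅ p ∈ B, PrimeSpectrum.asIdeal p) ≤ q) ?_)
  simp only [Ideal.mem_iInf]
  rintro p' ⟨hp', hrk', ht'⟩
  by_contra hnot
  have h1 := FreeAt.le_rk_of_linearIndependent (Φ p' hp') m e
    (FreeAt.linearIndependent_of_det _ (m ∘ e) ψ hnot)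
  omega

lemma exists_step (m : Fin (s + 1) → M) (hm : ∀ p hp, need k p (s + 1) ≤ (Φ p hp).rk m) :
    ∃ m' : Fin s → M, ∀ p hp, need k p s ≤ (Φ p hp).rk m' := by
  classical
  let B := (finite_bad Φ m hm).toFinset
  have hce : ∀ p : PrimeSpectrum A, ∃ (c : Fin s → p.asIdeal.ResidueField) (e : p.asIdeal.ResidueField),
      (c ≠ 0 ∨ e ≠ 0) ∧ ∀ hp : p.asIdeal.height ≤ k, p ∈ B → ∀ a : Fin s → p.asIdeal.ResidueField,
        e + ∑ i, c i * a i ≠ 0 →
        Submodule.span p.asIdeal.ResidueField
            (Set.range fun i : Fin s => (Φ p hp).val (m i.castSucc) + a i • (Φ p hp).val (m (Fin.last s))) =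
          Submodule.span p.asIdeal.ResidueField (Set.range ((Φ p hp).val ∘ m)) := by
    intro p
    by_cases hb : p ∈ B
    · obtain ⟨hp, hrk⟩ := (Set.Finite.mem_toFinset _).1 hb
      obtain ⟨c, e, h1, h2⟩ := exists_modify ((Φ p hp).val ∘ m)
        (show (Φ p hp).rk m ≤ s by rw [hrk]; exact min_le_left _ _)
      exact ⟨c, e, h1, fun _ _ a ha => h2 a ha⟩
    · exact ⟨0, 1, Or.inr one_ne_zero, fun _ h => absurd h hb⟩
  choose c e hne hspan using hce
  obtain ⟨a, ha⟩ : ∃ a : Fin s → A, ∀ p ∈ B, e p + ∑ j, c p j * algebraMap A _ (a j) ≠ 0 :=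
    exists_avoid B (fun p => p) (fun _ _ _ _ h => h) c e fun p _ => hne p
  refine ⟨fun i => m i.castSucc + a i • m (Fin.last s), fun p hp => ?_⟩
  have hfun : (Φ p hp).val ∘ (fun i => m i.castSucc + a i • m (Fin.last s)) = fun i : Fin s =>
      (Φ p hp).val (m i.castSucc) + algebraMap A p.asIdeal.ResidueField (a i) •
        (Φ p hp).val (m (Fin.last s)) :=
    funext fun i => by simp [FreeAt.smul_val]
  rw [FreeAt.rk, hfun]
  by_cases hb : p ∈ B
  · rw [hspan p hp hb _ (ha p hb)]
    exact le_trans (by simp only [need]; omega) (hm p hp)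
  · have h1 := finrank_le_modify ((Φ p hp).val ∘ m) fun i => algebraMap A p.asIdeal.ResidueField (a i)
    have h2 : (Φ p hp).rk m ≠ need k p s := fun h =>
      hb ((Set.Finite.mem_toFinset _).2 ⟨hp, h⟩)
    have h3 := hm p hp
    simp only [FreeAt.rk, need, Function.comp_apply] at *
    omega

/-- Serre's theorem on basic elements. -/
theorem exists_basic (hkr : k < r) : ∃ m : M, ∀ p hp, (Φ p hp).val m ≠ 0 := by
  obtain ⟨s₀, g, hg⟩ := Module.Finite.exists_fin (R := A) (M := M)
  suffices ∀ s, 1 ≤ s → (∃ m : Fin s → M, ∀ p hp, need k p s ≤ (Φ p hp).rk m) →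
      ∃ m : M, ∀ p hp, (Φ p hp).val m ≠ 0 by
    refine this (s₀ + 1) (by omega) ⟨Fin.cons 0 g, fun p hp => ?_⟩
    have htop : Submodule.span p.asIdeal.ResidueField
        (Set.range ((Φ p hp).val ∘ (Fin.cons 0 g : Fin (s₀ + 1) → M))) = ⊤ := by
      rw [eq_top_iff, ← (Φ p hp).span_range_val]
      refine Submodule.span_le.2 ?_
      rintro _ ⟨x, rfl⟩
      have hx : x ∈ Submodule.span A (Set.range g) := hg ▸ trivial
      induction hx using Submodule.span_induction with
      | mem x hx =>
        obtain ⟨i, rfl⟩ := hx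
        exact Submodule.subset_span ⟨i.succ, by simp⟩
      | zero => rw [map_zero]; exact zero_mem _
      | add x y _ _ hx hy => rw [map_add]; exact add_mem hx hy
      | smul a x _ hx => rw [(Φ p hp).smul_val]; exact Submodule.smul_mem _ _ hx
    rw [FreeAt.rk, htop, finrank_top, finrank_fin_fun]
    simp only [need]
    omega
  intro s
  induction s with
  | zero => intro h; omega
  | succ s ih =>
    rintro - ⟨m, hm⟩
    rcases Nat.eq_zero_or_pos s with rfl | hs
    · refine ⟨m 0, fun p hp h0 => ?_⟩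
      have h1 : (Φ p hp).rk m = 0 := by
        rw [FreeAt.rk, Submodule.finrank_eq_zero, Submodule.span_eq_bot]
        rintro _ ⟨i, rfl⟩
        rw [Fin.fin_one_eq_zero i]
        exact h0
      have := hm p hp
      have := toNat_le hp
      simp only [need] at *
      omega
    · exact ih hs (exists_step Φ m hm)

lemma nonempty_freeAt_quotient (F : FreeAt A M p (r + 1)) (m : M) (hm : F.val m ≠ 0) :
    Nonempty (FreeAt A (M ⧸ Submodule.span A {m}) p r) := by
  haveI := F.isLoc
  set x := F.l m
  obtain ⟨i, hi⟩ : ∃ i, F.val m i ≠ 0 := Function.ne_iff.1 hm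
  obtain ⟨w, hw⟩ : IsUnit (x i) := by
    by_contra h
    exact hi ((IsLocalRing.residue_eq_zero_iff _).2 h)
  let L : (Fin (r + 1) → Localization.AtPrime p.asIdeal) →ₗ[Localization.AtPrime p.asIdeal]
      (Fin r → Localization.AtPrime p.asIdeal) := LinearMap.pi fun j =>
    LinearMap.proj (i.succAbove j) - (↑w⁻¹ * x (i.succAbove j)) • LinearMap.proj i
  have hLx : L x = 0 := funext fun j => by
    simp only [L, LinearMap.pi_apply, LinearMap.sub_apply, LinearMap.smul_apply, LinearMap.proj_apply,
      smul_eq_mul, ← hw, Pi.zero_apply]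
    rw [mul_comm (↑w⁻¹ : Localization.AtPrime p.asIdeal), mul_assoc, Units.inv_mul, mul_one, sub_self]
  have hker : ∀ y, L y = 0 → y = (↑w⁻¹ * y i) • x := fun y hy => funext fun j => by
    rcases Fin.eq_self_or_eq_succAbove i j with rfl | ⟨j', rfl⟩
    · simp only [Pi.smul_apply, smul_eq_mul, ← hw]
      rw [mul_right_comm, Units.inv_mul, one_mul]
    · have := congrFun hy j'
      simp only [L, LinearMap.pi_apply, LinearMap.sub_apply, LinearMap.smul_apply, LinearMap.proj_apply,
        smul_eq_mul, Pi.zero_apply, sub_eq_zero] at this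
      simp only [Pi.smul_apply, smul_eq_mul, this]
      ring
  let g : (M ⧸ Submodule.span A {m}) →ₗ[A] (Fin r → Localization.AtPrime p.asIdeal) :=
    (Submodule.span A {m}).liftQ ((L.restrictScalars A) ∘ₗ F.l)
      ((Submodule.span_singleton_le_iff_mem _ _).2 hLx)
  refine ⟨⟨g, ⟨fun s => ?_, fun z => ?_, fun {a b} hab => ?_⟩⟩⟩
  · refine (Module.End.isUnit_iff _).2 ?_
    have hu : IsUnit (algebraMap A (Localization.AtPrime p.asIdeal) s.1) :=
      IsLocalization.map_units _ s
    obtain ⟨v, hv⟩ := hu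
    refine ⟨fun y z h => ?_, fun y => ⟨(↑v⁻¹ : Localization.AtPrime p.asIdeal) • y, ?_⟩⟩
    · simp only [Module.algebraMap_end_apply, ← algebraMap_smul (Localization.AtPrime p.asIdeal) s.1,
        ← hv] at h
      simpa [smul_smul] using congrArg ((↑v⁻¹ : Localization.AtPrime p.asIdeal) • ·) h
    · simp [Module.algebraMap_end_apply, ← algebraMap_smul (Localization.AtPrime p.asIdeal) s.1,
        ← hv, smul_smul]
  · obtain ⟨y, hy⟩ : ∃ y, L y = z := ⟨Fin.insertNth i 0 z, funext fun j => by simp [L]⟩
    obtain ⟨⟨a, s⟩, hs⟩ := IsLocalizedModule.surj p.asIdeal.primeCompl F.l y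
    exact ⟨⟨Submodule.Quotient.mk a, s⟩, by
      change s • z = L (F.l a)
      rw [← hs, ← hy, Submonoid.smul_def, Submonoid.smul_def, LinearMap.map_smul_of_tower]⟩
  · induction a using Submodule.Quotient.induction_on with
    | _ a =>
    induction b using Submodule.Quotient.induction_on with
    | _ b =>
    have h1 : L (F.l (a - b)) = 0 := by
      rw [map_sub, map_sub, sub_eq_zero]
      exact hab
    obtain ⟨⟨α, s⟩, hα⟩ := IsLocalization.surj p.asIdeal.primeCompl (↑w⁻¹ * F.l (a - b) i)
    have h2 : F.l (s.1 • (a - b) - α • m) = F.l 0 := by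
      rw [map_zero, map_sub, map_smul, map_smul, sub_eq_zero]
      conv_lhs => rw [hker _ h1]
      rw [← algebraMap_smul (Localization.AtPrime p.asIdeal) s.1,
        ← algebraMap_smul (Localization.AtPrime p.asIdeal) α, smul_smul, mul_comm, hα]
    obtain ⟨t, ht⟩ := IsLocalizedModule.exists_of_eq (S := p.asIdeal.primeCompl) h2
    refine ⟨t * s, ?_⟩
    simp only [Submonoid.smul_def, Submonoid.coe_mul] at ht ⊢
    rw [← Submodule.Quotient.mk_smul, ← Submodule.Quotient.mk_smul, Submodule.Quotient.eq,
      ← smul_sub]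
    rw [smul_sub, smul_zero, sub_eq_zero] at ht
    rw [← smul_smul, ht, smul_smul]
    exact Submodule.smul_mem _ _ (Submodule.mem_span_singleton_self m)

lemma eq_zero_of_smul_eq_zero (hAss : ∀ p ∈ associatedPrimes A A, p.height ≤ k)
    (m : M) (hm : ∀ p hp, (Φ p hp).val m ≠ 0) {a : A} (ha : a • m = 0) : a = 0 := by
  by_contra h0
  obtain ⟨P, hP, hle⟩ := exists_le_isAssociatedPrime_of_isNoetherianRing A a h0
  haveI := hP.isPrime
  let p : PrimeSpectrum A := ⟨P, hP.isPrime⟩
  have hp : p.asIdeal.height ≤ k := hAss P hP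
  obtain ⟨i, hi⟩ := Function.ne_iff.1 (hm p hp)
  have hu : IsUnit ((Φ p hp).l m i) := by
    by_contra h
    exact hi ((IsLocalRing.residue_eq_zero_iff _).2 h)
  have h1 : algebraMap A (Localization.AtPrime p.asIdeal) a * (Φ p hp).l m i = 0 := by
    have := congrFun (congrArg (Φ p hp).l ha) i
    rwa [map_smul, map_zero, Pi.smul_apply, Pi.zero_apply, Algebra.smul_def] at this
  obtain ⟨t, ht⟩ := (IsLocalization.map_eq_zero_iff P.primeCompl _ a).1
    ((hu.mul_left_eq_zero).1 h1)
  refine t.2 (hle ?_)
  rw [Submodule.mem_colon_singleton, smul_eq_mul, ht]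
  exact zero_mem _

/-- A free submodule with quotient free of rank `k` at the primes of height at most `k`. -/
theorem exists_free_submodule (hAss : ∀ p ∈ associatedPrimes A A, p.height ≤ k) (d : ℕ) :
    ∀ (M : Type u) [AddCommGroup M] [Module A M] [Module.Finite A M],
      (∀ p : PrimeSpectrum A, p.asIdeal.height ≤ k → Nonempty (FreeAt A M p (k + d))) →
      ∃ N : Submodule A M, Nonempty (N ≃ₗ[A] (Fin d → A)) ∧
        ∀ p : PrimeSpectrum A, p.asIdeal.height ≤ k → Nonempty (FreeAt A (M ⧸ N) p k) := by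
  induction d with
  | zero =>
    intro M _ _ _ hM
    refine ⟨⊥, ⟨LinearEquiv.ofSubsingleton _ _⟩, fun p hp => ?_⟩
    obtain ⟨F⟩ := hM p hp
    haveI := F.isLoc
    exact ⟨⟨F.l ∘ₗ (Submodule.quotEquivOfEqBot ⊥ rfl).toLinearMap,
      IsLocalizedModule.of_linearEquiv_right _ _ _⟩⟩
  | succ d ih =>
    intro M _ _ _ hM
    let Φ : ∀ p : PrimeSpectrum A, p.asIdeal.height ≤ k → FreeAt A M p (k + (d + 1)) :=
      fun p hp => (hM p hp).some
    obtain ⟨m, hm⟩ := exists_basic Φ (by omega)
    obtain ⟨N', ⟨e⟩, hN'⟩ := ih (M ⧸ Submodule.span A {m})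
      fun p hp => nonempty_freeAt_quotient (r := k + d) (Φ p hp) m (hm p hp)
    choose n hn using fun j => Submodule.Quotient.mk_surjective (Submodule.span A {m})
      (e.symm (Pi.single j 1)).1
    let g : (Fin (d + 1) → A) →ₗ[A] M := Fintype.linearCombination A (Fin.cons m n)
    have hmk : ∀ c, Submodule.Quotient.mk (g c) =
        ((e.symm (fun j : Fin d => c j.succ) : N') : M ⧸ Submodule.span A {m}) := by
      intro c
      have h0 : Submodule.Quotient.mk m = (0 : M ⧸ Submodule.span A {m}) :=
        (Submodule.Quotient.mk_eq_zero _).2 (Submodule.mem_span_singleton_self m)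
      have hc : (fun j : Fin d => c j.succ) = ∑ j, c j.succ • Pi.single j (1 : A) := by
        funext i
        simp [Pi.single_apply]
      conv_rhs => rw [hc]
      rw [← Submodule.mkQ_apply]
      simp only [g, Fintype.linearCombination_apply, Fin.sum_univ_succ, Fin.cons_zero, Fin.cons_succ,
        map_add, map_sum, map_smul, Submodule.mkQ_apply, h0, hn, smul_zero, zero_add,
        AddSubmonoidClass.coe_finset_sum, Submodule.coe_smul]
    have hinj : Function.Injective g := by
      rw [← LinearMap.ker_eq_bot, LinearMap.ker_eq_bot']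
      intro c hc
      have h1 : (fun j : Fin d => c j.succ) = 0 := by
        have := (hmk c).symm.trans (by rw [hc, Submodule.Quotient.mk_zero])
        exact e.symm.map_eq_zero_iff.1 (Subtype.ext this)
      have h2 : c 0 • m = 0 := by
        have : g c = c 0 • m := by
          simp only [g, Fintype.linearCombination_apply, Fin.sum_univ_succ, Fin.cons_zero,
            Fin.cons_succ]
          simp [show ∀ j : Fin d, c j.succ = 0 from congrFun h1]
        rw [← this, hc]
      refine funext fun j => Fin.cases ?_ (congrFun h1) j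
      exact eq_zero_of_smul_eq_zero Φ hAss m hm h2
    have hrange : LinearMap.range g = N'.comap (Submodule.span A {m}).mkQ := by
      refine le_antisymm ?_ fun x hx => ?_
      · rintro _ ⟨c, rfl⟩
        rw [Submodule.mem_comap, Submodule.mkQ_apply, hmk]
        exact Submodule.coe_mem _
      · obtain ⟨c, hc⟩ : ∃ c : Fin d → A, (e.symm c : M ⧸ Submodule.span A {m}) =
            Submodule.Quotient.mk x := ⟨e ⟨_, hx⟩, by simp⟩
        have h1 : x - g (Fin.cons 0 c) ∈ Submodule.span A {m} := by
          rw [← Submodule.Quotient.eq, hmk, ← hc]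
          simp
        obtain ⟨b, hb⟩ := Submodule.mem_span_singleton.1 h1
        refine ⟨Fin.cons b c, ?_⟩
        have h2 : g (Fin.cons b c) = b • m + g (Fin.cons 0 c) := by
          simp [g, Fintype.linearCombination_apply, Fin.sum_univ_succ]
        rw [h2, hb, sub_add_cancel]
    refine ⟨_, ⟨(LinearEquiv.ofEq _ _ hrange).symm.trans (LinearEquiv.ofInjective g hinj).symm⟩,
      fun p hp => ?_⟩
    obtain ⟨F⟩ := hN' p hp
    haveI := F.isLoc
    let q : (M ⧸ N'.comap (Submodule.span A {m}).mkQ) ≃ₗ[A] ((M ⧸ Submodule.span A {m}) ⧸ N') :=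
      (Submodule.quotEquivOfEq _ _ (by rw [LinearMap.ker_comp, Submodule.ker_mkQ])).trans
        ((N'.mkQ ∘ₗ (Submodule.span A {m}).mkQ).quotKerEquivOfSurjective
          ((Submodule.mkQ_surjective _).comp (Submodule.mkQ_surjective _)))
    exact ⟨⟨F.l ∘ₗ q.toLinearMap, IsLocalizedModule.of_linearEquiv_right _ _ _⟩⟩

end Groth.Agent.H14ResProp
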