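import Groth.Agent.H11Sym.BundleCanon
import Mathlib.Algebra.TrivSqZeroExt.Basic

/-!
# The projection of a symmetric algebra onto its degree one part
-/

set_option autoImplicit false
set_option linter.style.haveILetI false

noncomputable section

universe u

open CategoryTheory AlgebraicGeometry TopologicalSpace Opposite
open Groth.Agent.H11Sym

namespace Groth.Agent.H14ResProp.DegOne

variable {S : Scheme.{u}} {M : S.Modules} {B : RelSpec.QCAlg S} {j : M ⟶ B.toModule}

/-- Degree one. -/
theorem exists_degOne (hj : IsAffSym j) :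
    ∃ p : B.toModule ⟶ M, (∀ U : S.Opens, IsAffineOpen U →
        p.app U (show Γ(B.toModule, U) from (1 : B.presheaf.obj (op U))) = 0) ∧
      ∀ U : S.Opens, IsAffineOpen U → Function.Surjective (p.app U) := by
  letI : ∀ U : S.Opens, Module Γ(S, U)ᵐᵒᵖ Γ(M, U) := fun U =>
    Module.compHom Γ(M, U) ((RingHom.id Γ(S, U)).fromOpposite mul_comm)
  haveI : ∀ U : S.Opens, IsCentralScalar Γ(S, U) Γ(M, U) := fun U => ⟨fun r m => rfl⟩
  have hg : ∀ (U : S.Opens) (hU : IsAffineOpen U),
      ∃ g : B.presheaf.obj (op U) →+* TrivSqZeroExt Γ(S, U) Γ(M, U),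
        (∀ r, g (astr B U r) = TrivSqZeroExt.inl r) ∧ ∀ x, g (japp j U x) = TrivSqZeroExt.inr x := fun U hU =>
    hj.exists_lift hU (TrivSqZeroExt.inlHom Γ(S, U) Γ(M, U))
      (AddMonoidHom.mk' TrivSqZeroExt.inr (TrivSqZeroExt.inr_add Γ(S, U)))
      fun r m => (TrivSqZeroExt.inl_mul_inr r m).symm
  choose g hg₀ hg₁ using hg
  obtain ⟨p, hp⟩ := exists_hom_of_affine B.toModule M
    (fun U hU => AddMonoidHom.mk' (fun b => (g U hU (show B.presheaf.obj (op U) from b)).snd) (fun a b => by
      show (g U hU ((show B.presheaf.obj (op U) from a) + (show B.presheaf.obj (op U) from b))).snd = _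
      rw [map_add]; rfl))
    (fun U hU r x => by
      show (g U hU (astr B U r * (show B.presheaf.obj (op U) from x))).snd = _
      rw [map_mul, hg₀, TrivSqZeroExt.snd_mul]
      simp)
    (fun U hU r x => by
      let V := S.basicOpen r
      let ρ : Γ(S, U) →+* Γ(S, V) := (S.presheaf.map (homOfLE (S.basicOpen_le r)).op).hom
      let μ : Γ(M, U) →+ Γ(M, V) := (M.presheaf.map (homOfLE (S.basicOpen_le r)).op).hom
      have hμ : ∀ (a : Γ(S, U)) (m : Γ(M, U)), μ (a • m) = ρ a • μ m := fun a m =>
        Scheme.Modules.map_smul M _ a m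
      let τ : TrivSqZeroExt Γ(S, U) Γ(M, U) →+* TrivSqZeroExt Γ(S, V) Γ(M, V) :=
        { toFun := fun z => TrivSqZeroExt.inl (ρ z.fst) + TrivSqZeroExt.inr (μ z.snd)
          map_one' := by
            refine TrivSqZeroExt.ext ?_ ?_
            · simp
            · simp
          map_zero' := by simp
          map_add' := fun a b => by
            refine TrivSqZeroExt.ext ?_ ?_ <;> simp
          map_mul' := fun a b => by
            refine TrivSqZeroExt.ext ?_ ?_
            · simp
            · simp only [TrivSqZeroExt.snd_add, TrivSqZeroExt.snd_mul, TrivSqZeroExt.snd_inl, TrivSqZeroExt.snd_inr,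
                TrivSqZeroExt.fst_add, TrivSqZeroExt.fst_inl, TrivSqZeroExt.fst_inr, zero_add, add_zero,
                op_smul_eq_smul, map_add, hμ] }
      have hcomp : (g V (hU.basicOpen r)).comp (ares B (S.basicOpen_le r)) = τ.comp (g U hU) := by
        refine hj.ringHom_ext hU (fun a => ?_) fun m => ?_
        · simp only [RingHom.comp_apply]
          rw [ares_str, hg₀, hg₀]
          refine TrivSqZeroExt.ext ?_ ?_ <;> simp [τ, ρ]
        · simp only [RingHom.comp_apply]
          rw [← japp_res j (S.basicOpen_le r) m, hg₁, hg₁]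
          refine TrivSqZeroExt.ext ?_ ?_ <;> simp [τ, μ]
      have := congrArg TrivSqZeroExt.snd (RingHom.congr_fun hcomp (show B.presheaf.obj (op U) from x))
      refine this.trans ?_
      simp [τ, μ])
  refine ⟨p, fun U hU => ?_, fun U hU m => ⟨(show Γ(B.toModule, U) from japp j U m), ?_⟩⟩
  · refine (hp U hU _).trans ?_
    show (g U hU 1).snd = 0
    rw [map_one]
    rfl
  · refine (hp U hU _).trans ?_
    show (g U hU (japp j U m)).snd = m
    rw [hg₁]
    rfl

end Groth.Agent.H14ResProp.DegOne
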