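import Groth.Agent.H8Props.FlatLocus.Sections
import Groth.Agent.H16Derived.KFlat.PerfCoh
import Groth.Agent.H16Derived.KFlat.FlatCover
import Groth.Agent.H16Derived.KFlat.PerfFlat
import Groth.Agent.H22Alg.KLFRes
import Groth.Agent.H11Aff.AffinePushIso
import Groth.Agent.H10Coh.Serre
import Groth.Agent.H10Coh.GenHom
import Groth.Agent.H10Coh.FinType
import Groth.Agent.H16Derived.QCohD.MV
import Groth.Agent.H7Lim.ModExact

/-!
# Flat quasi-coherent quotients on schemes with affine intersections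
-/

set_option autoImplicit false
set_option backward.isDefEq.respectTransparency false
set_option backward.isDefEq.respectTransparency.types false
set_option linter.style.haveILetI false

universe u

open CategoryTheory CategoryTheory.Limits AlgebraicGeometry TopologicalSpace

noncomputable section

namespace Groth.Agent.H14ResProp

open H16Derived.KFlat.Stalk

variable {X Y : Scheme.{u}}

lemma isFlat_of_iso {M N : X.Modules} (e : M ≅ N) (h : FlatMod.IsFlat M) : FlatMod.IsFlat N :=
  isFlat_of_retract e.inv e.hom e.inv_hom_id h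

lemma isFlat_freeMod' (I : Type u) : FlatMod.IsFlat (H10Coh.freeMod X I) :=
  isFlat_of_iso ((coproductIsCoproduct fun _ : I => Coh.structureModule X).coconePointUniqueUpToIso
      (SheafOfModules.isColimitFreeCofan (R := X.ringCatSheaf) I))
    (isFlat_sigma _ fun _ => isFlat_structureModule)

/-- Quasi-coherent modules on affine schemes are quotients of flat ones. -/
lemma exists_flat_epi_of_isAffine [IsAffine X] (M : X.Modules) (hM : Coh.IsQCoh M) :
    ∃ (G : X.Modules) (π : G ⟶ M), Coh.IsQCoh G ∧ FlatMod.IsFlat G ∧ Epi π := by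
  obtain ⟨π, hπ⟩ := H10Coh.exists_free_desc (X := X) (N := M)
    fun s : Γ(M, ⊤) => H11Tilde.homOfGlobal M s
  refine ⟨_, π, H10Coh.isQuasicoherent_coproduct' _, isFlat_freeMod' _,
    H10Coh.epi_of_surjective_on_cover π hM (fun _ : Unit => (⊤ : X.Opens))
      (fun _ => isAffineOpen_top X) (fun _ => ⟨(), trivial⟩)
      fun _ => ⟨Set.univ, Submodule.span_univ, fun σ _ => ?_⟩⟩
  refine ⟨(H10Coh.freeIncl _ σ).app ⊤ (show Γ(Coh.structureModule X, ⊤) from (1 : Γ(X, ⊤))), ?_⟩
  refine (congr($(congr(Scheme.Modules.Hom.app $(hπ σ) ⊤)) _)).trans ?_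
  rw [H11Tilde.homOfGlobal_app]
  change (1 : Γ(X, ⊤)) • M.presheaf.map _ σ = σ
  rw [one_smul]
  exact congr($(M.presheaf.map_id _) σ)

lemma isFlatOverAt_of_isOpenImmersion {U : Scheme.{u}} (j : U ⟶ X) [IsOpenImmersion j]
    (N : U.Modules) (u : U) (h : FlatMod.IsFlatAt N u) : FlatMod.IsFlatOverAt j N u := by
  haveI : IsIso (j.stalkMap u) := inferInstance
  letI := FlatMod.moduleStalkOver j N u
  letI := (j.stalkMap u).hom.toAlgebra
  haveI : IsScalarTower (X.presheaf.stalk (j.base u)) (U.presheaf.stalk u) (N.presheaf.stalk u) :=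
    .of_algebraMap_smul fun _ _ => rfl
  haveI : Module.Flat (X.presheaf.stalk (j.base u)) (U.presheaf.stalk u) :=
    RingHom.Flat.of_bijective (f := (j.stalkMap u).hom)
      (ConcreteCategory.bijective_of_isIso (j.stalkMap u))
  haveI : Module.Flat (U.presheaf.stalk u) (N.presheaf.stalk u) := h
  exact Module.Flat.trans (X.presheaf.stalk (j.base u)) (U.presheaf.stalk u) (N.presheaf.stalk u)

/-- Affine open pushforward preserves flatness over an open. -/
lemma isFlatAt_push {U : Scheme.{u}} (j : U ⟶ X) [IsOpenImmersion j] [IsAffineHom j] (N : U.Modules)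
    (hN : Coh.IsQCoh N) (W : X.Opens) (hW : ∀ u : U, j u ∈ W → FlatMod.IsFlatAt N u) {x : X}
    (hx : x ∈ W) : FlatMod.IsFlatAt ((Coh.push j).obj N) x := by
  obtain ⟨V, hV, hxV, hle⟩ := exists_isAffineOpen_mem_and_subset (U := W) hx
  have hG : Coh.IsQCoh ((Coh.push j).obj N) :=
    @H10Coh.isQuasicoherent_pushforward_of_isAffineHom _ _ j _ N hN
  have h1 := (H8Props.FlatLocus.flat_sections_over_iff j N hN hV (hV.preimage j) le_rfl).2
    fun u => isFlatOverAt_of_isOpenImmersion j N u.1 (hW u.1 (hle u.2))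
  have h2 := (H8Props.FlatLocus.flat_sections_over_iff (𝟙 X) ((Coh.push j).obj N) hG hV hV le_rfl).1 (by
    have e : Module.compHom Γ(N, j ⁻¹ᵁ V) (j.appLE V (j ⁻¹ᵁ V) le_rfl).hom =
        Module.compHom Γ((Coh.push j).obj N, V) ((𝟙 X : X ⟶ X).appLE V V le_rfl).hom := by
      refine Module.ext' _ _ fun r (m : Γ(N, j ⁻¹ᵁ V)) => ?_
      show (j.appLE V (j ⁻¹ᵁ V) le_rfl).hom r • m =
        (j.app V).hom (((𝟙 X : X ⟶ X).appLE V V le_rfl).hom r) • m
      rw [j.app_eq_appLE]
      congr 2
      exact (congr($(X.presheaf.map_id (Opposite.op V)) r)).symm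
    rw [e] at h1
    exact h1) ⟨x, hxV⟩
  have e : FlatMod.moduleStalkOver (𝟙 X) ((Coh.push j).obj N) x =
      (FlatMod.moduleStalk ((Coh.push j).obj N) x :
        Module (X.presheaf.stalk x) (((Coh.push j).obj N).presheaf.stalk x)) := by
    refine Module.ext' _ _ fun r m => ?_
    show @HSMul.hSMul (X.presheaf.stalk x) (((Coh.push j).obj N).presheaf.stalk x) _ _
      ((Scheme.Hom.stalkMap (𝟙 X) x).hom r) m = @HSMul.hSMul (X.presheaf.stalk x) _ _ _ r m
    rw [Scheme.Hom.stalkMap_id]
    rfl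
  change @Module.Flat (X.presheaf.stalk x) (((Coh.push j).obj N).presheaf.stalk x) _ _
    (FlatMod.moduleStalkOver (𝟙 X) ((Coh.push j).obj N) x) at h2
  rwa [e] at h2

lemma isFlatAt_left {S : ShortComplex X.Modules} (hS : S.ShortExact) (x : X)
    (h₂ : FlatMod.IsFlatAt S.X₂ x) (h₃ : FlatMod.IsFlatAt S.X₃ x) : FlatMod.IsFlatAt S.X₁ x := by
  haveI : Module.Flat (X.presheaf.stalk x) (S.X₂.presheaf.stalk x) := h₂
  haveI : Module.Flat (X.presheaf.stalk x) (S.X₃.presheaf.stalk x) := h₃
  exact H8Props.flat_of_exact (H06Mod.stalkLin S.f x) (H06Mod.stalkLin S.g x)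
    (H06Mod.stalk_injective S hS x) (H06Mod.stalk_exact S hS x) (H06Mod.stalk_surjective S hS x)

lemma isFlatAt_mid {S : ShortComplex X.Modules} (hS : S.ShortExact) (x : X)
    (h₁ : FlatMod.IsFlatAt S.X₁ x) (h₃ : FlatMod.IsFlatAt S.X₃ x) : FlatMod.IsFlatAt S.X₂ x := by
  haveI : Module.Flat (X.presheaf.stalk x) (S.X₁.presheaf.stalk x) := h₁
  haveI : Module.Flat (X.presheaf.stalk x) (S.X₃.presheaf.stalk x) := h₃
  exact H06Mod.flat_of_exact_middle (H06Mod.stalkLin S.f x) (H06Mod.stalkLin S.g x)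
    (H06Mod.stalk_injective S hS x) (H06Mod.stalk_exact S hS x) (H06Mod.stalk_surjective S hS x)

lemma isFlatAt_of_isIso_stalk {M N : X.Modules} (φ : M ⟶ N) (x : X)
    [IsIso ((DerSch.stalkFunctor X x).map φ)] (h : FlatMod.IsFlatAt N x) : FlatMod.IsFlatAt M x :=
  haveI : Module.Flat (X.presheaf.stalk x) ((DerSch.stalkFunctor X x).obj N) := h
  Module.Flat.of_linearEquiv (asIso ((DerSch.stalkFunctor X x).map φ)).toLinearEquiv

lemma isFlat_restrictAt {U : Scheme.{u}} (j : U ⟶ X) [IsOpenImmersion j] (M : X.Modules) (u : U)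
    (h : FlatMod.IsFlatAt M (j u)) : FlatMod.IsFlatAt (M.restrict j) u := by
  letI := H06Mod.stalkAlgebra j u
  haveI : Module.Flat (X.presheaf.stalk (j.base u)) (M.presheaf.stalk (j.base u)) := h
  exact isFlatAt_of_isIso_stalk ((Scheme.Modules.restrictFunctorIsoPullback j).app M).hom u
    (Module.Flat.of_linearEquiv (H06Mod.pullStalkEquiv j M u).symm)

/-- Making a module flat over one more affine open. -/
lemma exists_step_flat (M P : X.Modules) (π : P ⟶ M) [Epi π] (hP : Coh.IsQCoh P) (W : X.Opens)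
    (hW : ∀ x ∈ W, FlatMod.IsFlatAt P x) (U : X.Opens) (hU : IsAffineOpen U) [IsAffineHom U.ι] :
    ∃ (P' : X.Modules) (π' : P' ⟶ M), Epi π' ∧ Coh.IsQCoh P' ∧
      ∀ x ∈ W ⊔ U, FlatMod.IsFlatAt P' x := by
  haveI : IsAffine (U : Scheme.{u}) := hU
  haveI : P.IsQuasicoherent := hP
  have hPU : Coh.IsQCoh (P.restrict U.ι) := Scheme.Modules.isQuasicoherent_restrictFunctor U.ι P
  obtain ⟨G, p, hG, hGf, hp⟩ := exists_flat_epi_of_isAffine _ hPU
  let g : (Coh.push U.ι).obj G ⟶ (Coh.push U.ι).obj (P.restrict U.ι) := (Coh.push U.ι).map p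
  haveI : G.IsQuasicoherent := hG
  haveI : (P.restrict U.ι).IsQuasicoherent := hPU
  haveI : Epi g := H11Tilde.epi_of_locally_surjective g fun W' t x' hx' => by
    obtain ⟨V, hV, hxV, hle⟩ := exists_isAffineOpen_mem_and_subset (U := W') hx'
    exact ⟨V, hle, hxV, H10Coh.surjective_app_of_epi p (hV.preimage U.ι) _⟩
  let η : P ⟶ (Coh.push U.ι).obj (P.restrict U.ι) :=
    (Scheme.Modules.restrictAdjunction U.ι).unit.app P
  let snd' : pullback g η ⟶ P := pullback.snd g η
  haveI : Epi snd' := inferInstanceAs (Epi (pullback.snd g η))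
  have hA : Coh.IsQCoh ((Coh.push U.ι).obj G) :=
    @H10Coh.isQuasicoherent_pushforward_of_isAffineHom _ _ U.ι _ G hG
  have hB : Coh.IsQCoh ((Coh.push U.ι).obj (P.restrict U.ι)) :=
    @H10Coh.isQuasicoherent_pushforward_of_isAffineHom _ _ U.ι _ _ hPU
  have hP' : Coh.IsQCoh (pullback g η) := by
    haveI : ((Coh.push U.ι).obj G).IsQuasicoherent := hA
    have h : Coh.IsQCoh (kernel (biprod.desc g (-η))) :=
      H7Lim.ModExact.isQCoh_kernel _ (H10Coh.isQuasicoherent_biprod _ _) hB
    have e : kernel (biprod.desc g (-η)) ≅ pullback g η :=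
      ((Abelian.PullbackToBiproductIsKernel.isLimitPullbackToBiproduct g η).conePointUniqueUpToIso
        (limit.isLimit _)).symm
    exact (SheafOfModules.isQuasicoherent (R := X.ringCatSheaf)).prop_of_iso e h
  refine ⟨pullback g η, snd' ≫ π, epi_comp _ _, hP', fun x hx => ?_⟩
  by_cases hxU : x ∈ U
  · haveI : IsIso ((Scheme.Modules.restrictFunctor U.ι).map η) := by
      haveI : IsIso ((Scheme.Modules.restrictFunctor U.ι).map η ≫
          (Scheme.Modules.restrictAdjunction U.ι).counit.app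
            ((Scheme.Modules.restrictFunctor U.ι).obj P)) := by
        rw [(Scheme.Modules.restrictAdjunction U.ι).left_triangle_components P]
        infer_instance
      exact IsIso.of_isIso_comp_right _ ((Scheme.Modules.restrictAdjunction U.ι).counit.app
        ((Scheme.Modules.restrictFunctor U.ι).obj P))
    have sq := (IsPullback.of_hasPullback g η).map (Scheme.Modules.restrictFunctor U.ι)
    haveI : IsIso ((Scheme.Modules.restrictFunctor U.ι).map (pullback.fst g η)) :=
      sq.isIso_fst_of_isIso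
    haveI := H16Derived.QCohD.MV.isIso_stalk_of_restrict U (pullback.fst g η) x hxU
    exact isFlatAt_of_isIso_stalk (pullback.fst g η) x
      (isFlatAt_push U.ι G hG ⊤ (fun u _ => hGf u) (Opens.mem_top x))
  · have hxW : x ∈ W := (Opens.mem_sup.1 hx).resolve_right hxU
    let i : kernel g ⟶ pullback g η := pullback.lift (kernel.ι g) 0 (by simp)
    have hi : i ≫ snd' = 0 := pullback.lift_snd _ _ _
    haveI : Mono i := by
      have e : i ≫ pullback.fst g η = kernel.ι g := pullback.lift_fst _ _ _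
      exact mono_of_mono_fac e
    have hS : (ShortComplex.mk i snd' hi).ShortExact :=
      { exact := ShortComplex.exact_of_f_is_kernel _ (KernelFork.IsLimit.ofι _ _
          (fun {T} t ht => kernel.lift g (t ≫ pullback.fst g η) (by
            rw [Category.assoc, pullback.condition, reassoc_of% (show t ≫ pullback.snd g η = 0 from ht),
              zero_comp]))
          (fun {T} t ht => pullback.hom_ext (by simp [i]) (by
            simpa [i] using (show t ≫ pullback.snd g η = 0 from ht).symm))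
          fun {T} t ht m hm => by
            rw [← cancel_mono i, hm]
            exact pullback.hom_ext (by simp [i])
              (by simpa [i] using (show t ≫ pullback.snd g η = 0 from ht))) }
    refine isFlatAt_mid hS x ?_ (hW x hxW)
    have hK : (ShortComplex.mk (kernel.ι g) g (kernel.condition g)).ShortExact :=
      { exact := ShortComplex.exact_kernel g }
    exact isFlatAt_left hK x (isFlatAt_push U.ι G hG ⊤ (fun u _ => hGf u) (Opens.mem_top x))
      (isFlatAt_push U.ι _ hPU W (fun u hu => by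
        exact isFlat_restrictAt U.ι P u (hW _ hu)) hxW)

/-- A flat quasi-coherent quotient cover. -/
theorem exists_flat_quotient [CompactSpace X]
    (hd : ∀ V W : X.Opens, IsAffineOpen V → IsAffineOpen W → IsAffineOpen (V ⊓ W))
    (M : X.Modules) (hM : Coh.IsQCoh M) :
    ∃ (F : X.Modules) (π : F ⟶ M), Coh.IsQCoh F ∧ FlatMod.IsFlat F ∧ Epi π := by
  classical
  let 𝒰 := X.affineCover.finiteSubcover
  haveI : Finite 𝒰.I₀ := inferInstanceAs (Finite { x // x ∈ _ })
  cases nonempty_fintype 𝒰.I₀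
  have hU : ∀ i, IsAffineOpen (𝒰.f i).opensRange := fun i =>
    haveI : IsAffine (𝒰.X i) := inferInstanceAs (IsAffine (X.affineCover.X _))
    isAffineOpen_opensRange _
  suffices ∀ s : Finset 𝒰.I₀, ∃ (P : X.Modules) (π : P ⟶ M), Epi π ∧ Coh.IsQCoh P ∧
      ∀ x ∈ s.sup fun i => (𝒰.f i).opensRange, FlatMod.IsFlatAt P x by
    obtain ⟨P, π, h1, h2, h3⟩ := this Finset.univ
    refine ⟨P, π, h2, fun x => h3 x ?_, h1⟩
    exact (Finset.le_sup (f := fun i => (𝒰.f i).opensRange) (Finset.mem_univ (𝒰.idx x)))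
      (𝒰.covers x)
  intro s
  induction s using Finset.induction_on with
  | empty => exact ⟨M, 𝟙 M, inferInstance, hM, fun x hx => absurd hx (Set.notMem_empty x)⟩
  | @insert i s _ ih =>
    obtain ⟨P, π, h1, h2, h3⟩ := ih
    let U := (𝒰.f i).opensRange
    haveI : IsAffineHom U.ι := ⟨fun V hV => by
      have e : U.ι ''ᵁ (U.ι ⁻¹ᵁ V) = U ⊓ V := by
        rw [Scheme.Hom.image_preimage_eq_opensRange_inf, Scheme.Opens.opensRange_ι]
      rw [← U.ι.isAffineOpen_iff_of_isOpenImmersion, e]
      exact hd U V (hU i) hV⟩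
    obtain ⟨P', π', e1, e2, e3⟩ := exists_step_flat M P π h2 _ h3 U (hU i)
    refine ⟨P', π', e1, e2, fun x hx => e3 x ?_⟩
    rw [Finset.sup_insert, sup_comm] at hx
    exact hx

end Groth.Agent.H14ResProp
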