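import Groth.Agent.S9515
import Groth.Agent.H10Coh.Proper
import Groth.Agent.H16Derived.KFlat.FinLocFree
import Groth.Agent.H23KS.Indec
import Groth.Agent.H11Tilde.Gen
import Groth.Agent.H22Alg.KosTwist
import Groth.Agent.H11Ample.RelCounit
import Groth.Agent.H10Coh.Proj.Coherent
import Groth.Agent.H8Props.FinLocFree.Sheaf
import Groth.Agent.H7Lim.Approx.AbsoluteMain
import Groth.Agent.H16Derived.KFlat.SheafAssoc
import Groth.Agent.H06EGA9.FlatConstructible

/-!
# Tensor powers of one finitely presented module cover every finitely presented module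
-/

set_option autoImplicit false
set_option backward.isDefEq.respectTransparency false
set_option backward.isDefEq.respectTransparency.types false
set_option linter.style.haveILetI false

noncomputable section

universe u

open CategoryTheory CategoryTheory.Limits AlgebraicGeometry Opposite TopologicalSpace
open Groth.Agent.H11Tilde Groth.Agent.H11Ample

namespace Groth.Agent.H14ResProp.PowGen

variable {X : Scheme.{u}} {L : X.Modules}

/-- The product `L^{⊗ n} ⟶ O_X` of the copies of `κ : L ⟶ O_X`. -/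
def mulPow (κ : L ⟶ Coh.structureModule X) : ∀ n : ℕ, CohB1.tensorPow L n ⟶ Coh.structureModule X
  | 0 => 𝟙 _
  | n + 1 => KoszTw.tensorMap (mulPow κ n) κ ≫ (SecTwist.unitorR (Coh.structureModule X)).hom

theorem mulPow_tm (κ : L ⟶ Coh.structureModule X) (n : ℕ) (W : X.Opens) (a : Γ(CohB1.tensorPow L n, W))
    (b : Γ(L, W)) :
    (mulPow κ (n + 1)).app W (tm a b) =
      (show Γ(X, W) from κ.app W b) • (mulPow κ n).app W a :=
  (congrArg ((SecTwist.unitorR (Coh.structureModule X)).hom.app W)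
    (KoszTw.tensorMap_tmul (mulPow κ n) κ W a b)).trans
    (SecTwist.unitorR_tmul (Coh.structureModule X) W _ _)

theorem mulPow_spow (κ : L ⟶ Coh.structureModule X) (n : ℕ) (W : X.Opens) (e : Γ(L, W))
    (he : κ.app W e = one W) : (mulPow κ n).app W (spow e n) = one W := by
  induction n with
  | zero => rfl
  | succ n ih =>
    refine (mulPow_tm κ n W (spow e n) e).trans ?_
    rw [he, ih]
    exact one_smul Γ(X, W) _

/-- The ideal in the local ring. -/
abbrev idealAt (I : X.IdealSheafData) (V : X.affineOpens) (x : X) (hx : x ∈ V.1) : Ideal (X.presheaf.stalk x) :=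
  (I.ideal V).map (X.presheaf.germ V.1 x hx).hom

theorem germ_mem_idealAt (I : X.IdealSheafData) (V : X.affineOpens) {x : X} (hx : x ∈ V.1) {W : X.Opens}
    (hxW : x ∈ W) (m : Γ(ClSub.idealMod I, W)) :
    X.presheaf.germ W x hxW (OmegaSh.idealSect I W m) ∈ idealAt I V x hx := by
  obtain ⟨_, ⟨V', hV' : IsAffineOpen V', rfl⟩, hxV', hle⟩ :=
    X.isBasis_affineOpens.exists_subset_of_mem_open (show x ∈ W ⊓ V.1 from ⟨hxW, hx⟩) (W ⊓ V.1).isOpen
  have hW' : V' ≤ W := fun y hy => (hle hy).1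
  have hV'' : V' ≤ V.1 := fun y hy => (hle hy).2
  have hmem : X.presheaf.map (homOfLE hW').op (OmegaSh.idealSect I W m) ∈ I.ideal ⟨V', hV'⟩ :=
    (H29Blow.mem_ideal_iff_exists_idealSect I hV' _).2
      ⟨(ClSub.idealMod I).presheaf.map (homOfLE hW').op m, H29Blow.idealSect_res I _ m⟩
  rw [← I.map_ideal (U := ⟨V', hV'⟩) (V := V) hV''] at hmem
  have h1 := Ideal.mem_map_of_mem (X.presheaf.germ V' x hxV').hom hmem
  rw [Ideal.map_map, ← CommRingCat.hom_comp] at h1
  erw [X.presheaf.germ_res] at h1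
  change X.presheaf.germ V' x hxV' (X.presheaf.map (homOfLE hW').op _) ∈ _ at h1
  rwa [X.presheaf.germ_res_apply] at h1

theorem stalkLin_mulPow_mem (I : X.IdealSheafData) (κ : L ⟶ Coh.structureModule X)
    (hκ : ∀ (W : X.Opens) (b : Γ(L, W)), ∃ m, OmegaSh.idealSect I W m = κ.app W b)
    (V : X.affineOpens) {x : X} (hx : x ∈ V.1) :
    ∀ (n : ℕ) (v : (CohB1.tensorPow L n).presheaf.stalk x),
      H06Mod.stalkLin (mulPow κ n) x v ∈ idealAt I V x hx ^ n •
        (⊤ : Submodule (X.presheaf.stalk x) ((Coh.structureModule X).presheaf.stalk x))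
  | 0, v => by rw [pow_zero, Ideal.one_eq_top, Submodule.top_smul]; exact Submodule.mem_top
  | n + 1, v => by
    obtain ⟨t, rfl⟩ := (H16Derived.KFlat.Stalk.toStalk_bijective (CohB1.tensorPow L n) L x).2 v
    induction t using TensorProduct.induction_on with
    | zero => exact (by rw [map_zero]; exact (map_zero (H06Mod.stalkLin (mulPow κ (n + 1)) x)).symm ▸ zero_mem _)
    | add a b ha hb =>
      rw [map_add]
      exact (map_add (H06Mod.stalkLin (mulPow κ (n + 1)) x) _ _).symm ▸ add_mem ha hb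
    | tmul a b =>
      obtain ⟨W₁, hW₁, a, rfl⟩ := TopCat.Presheaf.exists_germ_eq (CohB1.tensorPow L n).presheaf a
      obtain ⟨W₂, hW₂, b, rfl⟩ := TopCat.Presheaf.exists_germ_eq L.presheaf b
      have hW : x ∈ W₁ ⊓ W₂ := ⟨hW₁, hW₂⟩
      rw [← TopCat.Presheaf.germ_res_apply (CohB1.tensorPow L n).presheaf (homOfLE (inf_le_left : W₁ ⊓ W₂ ≤ W₁)) x hW a,
        ← TopCat.Presheaf.germ_res_apply L.presheaf (homOfLE (inf_le_right : W₁ ⊓ W₂ ≤ W₂)) x hW b,
        H16Derived.KFlat.Stalk.toStalk_tmul, H16Derived.KFlat.Stalk.pair_germ]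
      erw [H06Mod.stalkLin_germ, mulPow_tm, H06Mod.germ_smul]
      rw [pow_succ', mul_smul]
      refine Submodule.smul_mem_smul ?_ ?_
      · obtain ⟨m, hm⟩ := hκ _ (L.presheaf.map (homOfLE (inf_le_right : W₁ ⊓ W₂ ≤ W₂)).op b)
        exact hm ▸ germ_mem_idealAt I V hx hW m
      · have := stalkLin_mulPow_mem I κ hκ V hx n ((CohB1.tensorPow L n).presheaf.germ _ x hW
          ((CohB1.tensorPow L n).presheaf.map (homOfLE (inf_le_left : W₁ ⊓ W₂ ≤ W₁)).op a))
        rwa [H06Mod.stalkLin_germ] at this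

variable [IsNoetherian X]

theorem mulPow_comp_eta (I : X.IdealSheafData) (κ : L ⟶ Coh.structureModule X)
    (hκ : ∀ (W : X.Opens) (b : Γ(L, W)), ∃ m, OmegaSh.idealSect I W m = κ.app W b) (n : ℕ) :
    mulPow κ n ≫ (Scheme.Modules.pullbackPushforwardAdjunction (I ^ n).subschemeι).unit.app
      (Coh.structureModule X) = 0 := by
  let η := (Scheme.Modules.pullbackPushforwardAdjunction (I ^ n).subschemeι).unit.app (Coh.structureModule X)
  refine H23KS.hom_ext_stalkLin fun x v => ?_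
  obtain ⟨_, ⟨V, hV : IsAffineOpen V, rfl⟩, hxV, -⟩ :=
    X.isBasis_affineOpens.exists_subset_of_mem_open (Set.mem_univ x) isOpen_univ
  obtain ⟨W, hW, w, rfl⟩ := TopCat.Presheaf.exists_germ_eq (CohB1.tensorPow L n).presheaf v
  have hmem := stalkLin_mulPow_mem I κ hκ ⟨V, hV⟩ hxV n ((CohB1.tensorPow L n).presheaf.germ W x hW w)
  rw [H06Mod.stalkLin_germ] at hmem
  rw [H06Mod.stalkLin_germ, H06Mod.stalkLin_germ]
  show _ = ((Scheme.Modules.pushforward (I ^ n).subschemeι).obj _).presheaf.germ W x hW 0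
  rw [map_zero]
  change ((Scheme.Modules.pushforward (I ^ n).subschemeι).obj _).presheaf.germ W x hW
    (η.app W ((mulPow κ n).app W w)) = 0
  erw [← H06Mod.stalkLin_germ η]
  suffices h : idealAt I ⟨V, hV⟩ x hxV ^ n •
      (⊤ : Submodule (X.presheaf.stalk x) ((Coh.structureModule X).presheaf.stalk x)) ≤
      LinearMap.ker (H06Mod.stalkLin η x) from LinearMap.mem_ker.1 (h hmem)
  refine Submodule.smul_le.2 fun r hr z _ => ?_
  rw [LinearMap.mem_ker, map_smul]
  have hle : idealAt I ⟨V, hV⟩ x hxV ^ n ≤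
      (LinearMap.range (H06Mod.stalkLin η x)).annihilator := by
    rw [← Ideal.map_pow, Ideal.map_le_iff_le_comap]
    intro c hc
    rw [Ideal.mem_comap, Submodule.mem_annihilator]
    rintro _ ⟨z', rfl⟩
    obtain ⟨W', hW', z'', rfl⟩ := TopCat.Presheaf.exists_germ_eq (Coh.structureModule X).presheaf z'
    obtain ⟨_, ⟨V', hV' : IsAffineOpen V', rfl⟩, hxV', hle'⟩ :=
      X.isBasis_affineOpens.exists_subset_of_mem_open (show x ∈ W' ⊓ V from ⟨hW', hxV⟩) (W' ⊓ V).isOpen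
    have h1 : V' ≤ W' := fun y hy => (hle' hy).1
    have h2 : V' ≤ V := fun y hy => (hle' hy).2
    have hc' : X.presheaf.map (homOfLE h2).op c ∈ (I ^ n).ideal ⟨V', hV'⟩ := by
      rw [← (I ^ n).map_ideal (U := ⟨V', hV'⟩) (V := ⟨V, hV⟩) h2]
      refine Ideal.mem_map_of_mem _ ?_
      rwa [Scheme.IdealSheafData.ideal_pow, Pi.pow_apply]
    obtain ⟨s, hs⟩ := LeadDev.exists_idealMulι_app_eq (I ^ n) (Coh.structureModule X)
      (H10Coh.isCoh_structureModule' X) ⟨V', hV'⟩ _ hc'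
      ((Coh.structureModule X).presheaf.map (homOfLE h1).op z'')
    have h0 : η.app V' (X.presheaf.map (homOfLE h2).op c •
        (Coh.structureModule X).presheaf.map (homOfLE h1).op z'') = 0 := by
      rw [← hs]
      exact congr($(congrArg (fun k => Scheme.Modules.Hom.app k V') (kernel.condition η)) s)
    rw [← TopCat.Presheaf.germ_res_apply (Coh.structureModule X).presheaf (homOfLE h1) x hxV' z'',
      ← X.presheaf.germ_res_apply (homOfLE h2) x hxV' c]
    rw [← map_smul, ← H06Mod.germ_smul]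
    erw [H06Mod.stalkLin_germ]
    rw [h0, map_zero]
  exact Submodule.mem_annihilator.1 (hle hr) _ ⟨z, rfl⟩

/-- A section over an affine open cut out by `I` extends to all high tensor powers. -/
theorem exists_hom (I : X.IdealSheafData) (κ : L ⟶ Coh.structureModule X)
    (hκ : ∀ (W : X.Opens) (b : Γ(L, W)), ∃ m, OmegaSh.idealSect I W m = κ.app W b)
    (U : X.Opens) (hU : (U : Set X) = (I.support : Set X)ᶜ) (N : X.Modules) (hN : Coh.IsQCoh N)
    (e : Γ(L, U.ι ''ᵁ ⊤)) (he : κ.app (U.ι ''ᵁ ⊤) e = one (U.ι ''ᵁ ⊤)) (s : Γ(N, U.ι ''ᵁ ⊤)) :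
    ∃ n₀ : ℕ, ∀ n, n₀ ≤ n → ∃ θ : CohB1.tensorPow L n ⟶ N, θ.app (U.ι ''ᵁ ⊤) (spow e n) = s := by
  let R := Scheme.Modules.restrictFunctor U.ι
  let φ₀ : Coh.structureModule U.toScheme ⟶ (Coh.structureModule X).restrict U.ι :=
    ((Coh.structureModule X).restrict U.ι).unitHomEquiv.symm (genSections (Coh.structureModule X) U (one U))
  haveI : IsIso φ₀ := by
    rw [Scheme.Modules.Hom.isIso_iff_isIso_app]
    intro W
    rw [ConcreteCategory.isIso_iff_bijective]
    have h : Function.Bijective fun r : Γ(X, U.ι ''ᵁ W) =>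
        r • (Coh.structureModule X).presheaf.map (homOfLE (U.ι_image_le W)).op (one U) := by
      refine Eq.mpr (congrArg Function.Bijective (funext fun r => ?_)) Function.bijective_id
      change (r * X.presheaf.map (homOfLE (U.ι_image_le W)).op (1 : Γ(X, U)) : Γ(X, U.ι ''ᵁ W)) = r
      rw [map_one, mul_one]
    exact h.comp (ConcreteCategory.bijective_of_isIso (U.ι.appIso W).inv)
  let φ : R.obj (Coh.structureModule X) ⟶ R.obj N := inv φ₀ ≫ homOfGlobal (R.obj N) s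
  have hφ₀ : φ₀.app ⊤ (show Γ(Coh.structureModule U.toScheme, ⊤) from (1 : Γ(U.toScheme, ⊤))) =
      one (U.ι ''ᵁ ⊤) := by
    refine Eq.trans ?_ (map_one (X.presheaf.map (homOfLE (U.ι_image_le ⊤)).op).hom)
    exact one_smul Γ(U.toScheme, ⊤) _
  have hφ : φ.app ⊤ (one (U.ι ''ᵁ ⊤)) = s := by
    show (homOfGlobal (R.obj N) s).app ⊤ ((inv φ₀).app ⊤ (one (U.ι ''ᵁ ⊤))) = s
    rw [← hφ₀]
    refine (congrArg ((homOfGlobal (R.obj N) s).app ⊤) (congr($(congrArg
      (fun k => Scheme.Modules.Hom.app k (⊤ : U.toScheme.Opens)) (IsIso.hom_inv_id φ₀))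
      (show Γ(Coh.structureModule U.toScheme, ⊤) from (1 : Γ(U.toScheme, ⊤)))))).trans ?_
    refine (homOfGlobal_app (R.obj N) s ⊤ _).trans ?_
    rw [show (homOfLE (le_top : (⊤ : U.toScheme.Opens) ≤ ⊤)).op = 𝟙 _ from rfl,
      CategoryTheory.Functor.map_id]
    exact one_smul Γ(U.toScheme, ⊤) _
  obtain ⟨n₀, ψ, hψ⟩ := S9515.result X N (Coh.structureModule X) hN (H10Coh.isCoh_structureModule' X) I U hU φ
  refine ⟨n₀, fun n hn => ?_⟩
  let μ : CohB1.tensorPow L n ⟶ (Dual3.idealMul (I ^ n)).obj (Coh.structureModule X) :=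
    kernel.lift _ (mulPow κ n) (mulPow_comp_eta I κ hκ n)
  obtain ⟨ι, hι⟩ := H10Inj.IdealPow.exists_pow_incl I (Coh.structureModule X)
    (H10Coh.isCoh_structureModule' X) hn
  refine ⟨μ ≫ ι ≫ ψ, ?_⟩
  let t := ι.app (U.ι ''ᵁ ⊤) (μ.app (U.ι ''ᵁ ⊤) (spow e n))
  have ht : (Dual3.idealMulι (I ^ n₀) (Coh.structureModule X)).app (U.ι ''ᵁ ⊤) t = one _ := by
    have h1 : μ ≫ ι ≫ Dual3.idealMulι (I ^ n₀) (Coh.structureModule X) = mulPow κ n := by
      rw [hι]; exact kernel.lift_ι _ _ _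
    exact (congr($(congrArg (fun k => Scheme.Modules.Hom.app k (U.ι ''ᵁ ⊤)) h1) (spow e n))).trans
      (mulPow_spow κ n _ e he)
  show ψ.app (U.ι ''ᵁ ⊤) t = s
  refine (congr($(congrArg (fun k => Scheme.Modules.Hom.app k (⊤ : U.toScheme.Opens)) hψ) t)).trans ?_
  show φ.app ⊤ ((Dual3.idealMulι (I ^ n₀) (Coh.structureModule X)).app (U.ι ''ᵁ ⊤) t) = s
  rw [ht, hφ]

end Groth.Agent.H14ResProp.PowGen

namespace Groth.Agent.H14ResProp.PowGen

variable {X Y : Scheme.{u}}

/-- Pullback commutes with tensor powers. -/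
def pullPow (f : X ⟶ Y) (L : Y.Modules) : ∀ n : ℕ,
    (Scheme.Modules.pullback f).obj (CohB1.tensorPow L n) ≅
      CohB1.tensorPow ((Scheme.Modules.pullback f).obj L) n
  | 0 => H16Derived.KFlat.Stalk.structurePullbackIso f
  | n + 1 => (H16Derived.KFlat.Stalk.pullTensorLIso f L).app (CohB1.tensorPow L n) ≪≫
      PicGrp.tensorModIso (pullPow f L n) (Iso.refl _)

theorem exists_finitelyPresented_pow_gen (X : Scheme.{u}) [CompactSpace X] [QuasiSeparatedSpace X] :
    ∃ F : X.Modules, Coh.IsQCoh F ∧ CohB1.IsFP F ∧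
      ∀ M : X.Modules, Coh.IsQCoh M → CohB1.IsFP M →
        ∃ n₀ m₀ : ℕ, ∀ n m : ℕ, n₀ ≤ n → m₀ ≤ m →
          ∃ π : (∐ fun _ : Fin m => CohB1.tensorPow F n) ⟶ M, Epi π := by
  classical
  obtain ⟨X₀, π, hπ, hc, hZ⟩ := H7Lim.Approx.exists_affineHom_finiteType X
  haveI := H7Lim.Approx.isLocallyNoetherian_of_toZ X₀
  haveI : IsNoetherian X₀ := ⟨⟩
  obtain ⟨r, U, hU, -, hcov⟩ := H10Coh.exists_finite_affine_cover (W := (⊤ : X₀.Opens)) isCompact_univ
  let I : Fin r → X₀.IdealSheafData := fun j =>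
    Scheme.IdealSheafData.vanishingIdeal ⟨(U j : Set X₀)ᶜ, (U j).isOpen.isClosed_compl⟩
  have hsupp : ∀ j, (U j : Set X₀) = ((I j).support : Set X₀)ᶜ := fun j => by
    simp [I, Scheme.IdealSheafData.coe_support_vanishingIdeal]
  let W : Fin r → X₀.Opens := fun j => (U j).ι ''ᵁ ⊤
  have hW : ∀ j, W j = U j := fun j => (U j).ι_image_top
  have hWaff : ∀ j, IsAffineOpen (W j) := fun j => (hW j).symm ▸ hU j
  let F₀ : X₀.Modules := ∐ fun j => ClSub.idealMod (I j)
  have hF₀ : Coh.IsCoh F₀ := H10Coh.isCoh_sigma _ fun j => by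
    have hm : Mono (ClSub.idealModι (I j)) := by unfold ClSub.idealModι; infer_instance
    exact @H10Coh.isCoh_of_mono _ _ _ _ (ClSub.idealModι (I j)) hm
      (H17.OmegaLocal.isQuasicoherent_idealMod (I j)) (H10Coh.isCoh_structureModule' X₀)
  let κ : ∀ j, F₀ ⟶ Coh.structureModule X₀ := fun j =>
    Sigma.desc (fun i => if h : i = j then eqToHom (by rw [h]) else 0) ≫ ClSub.idealModι (I j)
  have hone : ∀ j, ∃ e : Γ(F₀, W j), (κ j).app (W j) e = one (W j) := by
    intro j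
    have h1 : (1 : Γ(X₀, W j)) ∈ (I j).ideal ⟨W j, hWaff j⟩ := by
      rw [Scheme.IdealSheafData.vanishingIdeal_ideal]
      have : (hWaff j).fromSpec ⁻¹' ((U j : Set X₀)ᶜ) = ∅ := by
        ext p
        refine iff_of_false (fun hp => hp ?_) id
        have := (hWaff j).range_fromSpec.le ⟨p, rfl⟩
        exact SetLike.ext_iff.1 (hW j) _ |>.1 this
      exact (PrimeSpectrum.mem_vanishingIdeal _ _).2 fun p hp => absurd (this.le hp) (Set.notMem_empty p)
    obtain ⟨m, hm⟩ := (H29Blow.mem_ideal_iff_exists_idealSect (I j) (hWaff j) 1).1 h1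
    refine ⟨(Sigma.ι (fun j => ClSub.idealMod (I j)) j).app (W j) m, ?_⟩
    have : Sigma.ι (fun j => ClSub.idealMod (I j)) j ≫ κ j = ClSub.idealModι (I j) := by
      rw [← Category.assoc, Sigma.ι_desc, dif_pos rfl, eqToHom_refl, Category.id_comp]
    exact (congr($(congrArg (fun k => Scheme.Modules.Hom.app k (W j)) this) m)).trans hm
  choose e he using hone
  have hκ : ∀ j (O : X₀.Opens) (b : Γ(F₀, O)), ∃ m, OmegaSh.idealSect (I j) O m = (κ j).app O b :=
    fun j O b => ⟨_, rfl⟩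
  refine ⟨(Scheme.Modules.pullback π).obj F₀, H29Fitt.isQCoh_pullback π F₀ hF₀.1,
    H06EGA9.isFP_pullback π (H10Coh.isFP_of_isCoh F₀ hF₀), fun M hM hMfp => ?_⟩
  haveI := hM
  let N := (Scheme.Modules.pushforward π).obj M
  have hN : Coh.IsQCoh N := H10Coh.isQuasicoherent_pushforward_of_isAffineHom π M
  have hVaff : ∀ j, IsAffineOpen (π ⁻¹ᵁ W j) := fun j => (hWaff j).preimage π
  have hfin : ∀ j, ∃ S : Finset Γ(M, π ⁻¹ᵁ W j),
      Submodule.span Γ(X, π ⁻¹ᵁ W j) (S : Set Γ(M, π ⁻¹ᵁ W j)) = ⊤ := fun j => by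
    haveI := H8Props.FinLocFree.finitePresentation_sections M hMfp (hVaff j)
    exact Module.Finite.fg_top (R := Γ(X, π ⁻¹ᵁ W j))
  choose S hS using hfin
  let J := Σ j : Fin r, S j
  have hθ : ∀ q : J, ∃ n₀ : ℕ, ∀ n, n₀ ≤ n → ∃ θ : CohB1.tensorPow F₀ n ⟶ N,
      θ.app (W q.1) (spow (e q.1) n) = q.2.1 := fun q =>
    exists_hom (I q.1) (κ q.1) (hκ q.1) (U q.1) (hsupp q.1) N hN (e q.1) (he q.1) q.2.1
  choose n₁ θ hθ using hθ
  refine ⟨Finset.univ.sup n₁, Fintype.card J, fun n m hn hm => ?_⟩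
  have hn' : ∀ q, n₁ q ≤ n := fun q => (Finset.le_sup (Finset.mem_univ q)).trans hn
  let adj := Scheme.Modules.pullbackPushforwardAdjunction π
  let θ' : ∀ _ : J, CohB1.tensorPow ((Scheme.Modules.pullback π).obj F₀) n ⟶ M := fun q =>
    (pullPow π F₀ n).inv ≫ (adj.homEquiv _ _).symm (θ q n (hn' q))
  let ψ : (∐ fun _ : Fin m => CohB1.tensorPow ((Scheme.Modules.pullback π).obj F₀) n) ⟶ M :=
    Sigma.desc fun i => if h : (i : ℕ) < Fintype.card J then θ' ((Fintype.equivFin J).symm ⟨i, h⟩) else 0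
  refine ⟨ψ, H10Coh.epi_of_surjective_on_cover ψ hM (fun j => π ⁻¹ᵁ W j) hVaff (fun x => ?_)
    fun j => ⟨(S j : Set _), hS j, fun σ hσ => ?_⟩⟩
  · have : π x ∈ ⨆ j, U j := hcov.ge trivial
    obtain ⟨j, hj⟩ := Opens.mem_iSup.1 this
    exact ⟨j, show π x ∈ W j by rw [hW j]; exact hj⟩
  · let q : J := ⟨j, ⟨σ, hσ⟩⟩
    let i : Fin m := ⟨(Fintype.equivFin J q).1, lt_of_lt_of_le (Fintype.equivFin J q).2 hm⟩
    let G := fun _ : Fin m => CohB1.tensorPow ((Scheme.Modules.pullback π).obj F₀) n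
    let u := (adj.unit.app (CohB1.tensorPow F₀ n)).app (W j) (spow (e j) n)
    refine ⟨(Sigma.ι G i).app (π ⁻¹ᵁ W j) ((pullPow π F₀ n).hom.app (π ⁻¹ᵁ W j) u), ?_⟩
    have hι : Sigma.ι G i ≫ ψ = θ' q := by
      rw [Sigma.ι_desc, dif_pos (show (i : ℕ) < Fintype.card J from (Fintype.equivFin J q).2)]
      congr 1
      exact (Fintype.equivFin J).symm_apply_apply q
    have h1 : (pullPow π F₀ n).hom ≫ Sigma.ι G i ≫ ψ = (adj.homEquiv _ _).symm (θ q n (hn' q)) := by
      rw [hι, Iso.hom_inv_id_assoc]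
    refine (congr($(congrArg (fun k => Scheme.Modules.Hom.app k (π ⁻¹ᵁ W j)) h1) u)).trans ?_
    have h2 : adj.unit.app (CohB1.tensorPow F₀ n) ≫
        (Scheme.Modules.pushforward π).map ((adj.homEquiv _ _).symm (θ q n (hn' q))) = θ q n (hn' q) :=
      (adj.homEquiv_unit _ _ _).symm.trans ((adj.homEquiv _ _).apply_symm_apply _)
    exact (congr($(congrArg (fun k => Scheme.Modules.Hom.app k (W j)) h2) (spow (e j) n))).trans (hθ q n (hn' q))

end Groth.Agent.H14ResProp.PowGen
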