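import Groth.Agent.LeadResProp.Basic

/-!
# The projection formula for an affine morphism and quasi-coherent modules
-/

set_option autoImplicit false
set_option linter.style.haveILetI false

noncomputable section

universe u

open CategoryTheory CategoryTheory.Limits AlgebraicGeometry Opposite TopologicalSpace TensorProduct
open Groth.Agent.H11Ample Groth.Agent.H8Props.PullSections Groth.Agent.H11Tilde

namespace Groth.Agent.H14ResProp.ProjAffine

variable {X Y : Scheme.{u}} (f : X ⟶ Y) (M : X.Modules) (N : Y.Modules)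

/-- `(m, y) ↦ m ⊗ f^* y`. -/
def pushPairing : H11Tilde.Pairing ((Scheme.Modules.pushforward f).obj M) N
    ((Scheme.Modules.pushforward f).obj (CohB1.tensorMod M ((Scheme.Modules.pullback f).obj N))) where
  toFun U m y := tm (show Γ(M, f ⁻¹ᵁ U) from m) (OmegaSh.pullSect f N U y)
  add_left U m m' y := tm_add_left (show Γ(M, f ⁻¹ᵁ U) from m) (show Γ(M, f ⁻¹ᵁ U) from m') _
  smul_left U r m y := tm_smul_left (f.app U r) (show Γ(M, f ⁻¹ᵁ U) from m) _
  add_right U m y y' := by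
    rw [map_add (OmegaSh.pullSect f N U).hom]
    exact tm_add_right (show Γ(M, f ⁻¹ᵁ U) from m) _ _
  smul_right U r m y := by
    rw [OmegaSh.pullSect_smul]
    exact tm_smul_right (f.app U r) (show Γ(M, f ⁻¹ᵁ U) from m) _
  res U V k m y := by
    refine (tm_res (f.preimage_mono k) (show Γ(M, f ⁻¹ᵁ U) from m) (OmegaSh.pullSect f N U y)).trans ?_
    exact congrArg (tm _) (H11Tilde.pullSect_res f N k y).symm

/-- `f_* M ⊗ N ⟶ f_* (M ⊗ f^* N)`. -/
def projHom : CohB1.tensorMod ((Scheme.Modules.pushforward f).obj M) N ⟶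
    (Scheme.Modules.pushforward f).obj (CohB1.tensorMod M ((Scheme.Modules.pullback f).obj N)) :=
  H11Tilde.tensorDesc (pushPairing f M N)

theorem projHom_tm {U : Y.Opens} (m : Γ((Scheme.Modules.pushforward f).obj M, U)) (y : Γ(N, U)) :
    (projHom f M N).app U (tm m y) = tm (show Γ(M, f ⁻¹ᵁ U) from m) (OmegaSh.pullSect f N U y) :=
  tensorDesc_tm (pushPairing f M N) m y

/-- The projection formula. -/
theorem isIso_projHom [IsAffineHom f] (hM : Coh.IsQCoh M) (hN : Coh.IsQCoh N) : IsIso (projHom f M N) := by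
  haveI : N.IsQuasicoherent := hN
  haveI : M.IsQuasicoherent := hM
  haveI : ((Scheme.Modules.pullback f).obj N).IsQuasicoherent := H29Fitt.isQCoh_pullback f N hN
  haveI := H10Coh.isQuasicoherent_pushforward_of_isAffineHom f M
  haveI := H10Coh.TT.isQCoh_tensorMod ((Scheme.Modules.pushforward f).obj M) N
  haveI := H10Coh.TT.isQCoh_tensorMod M ((Scheme.Modules.pullback f).obj N)
  haveI := H10Coh.isQuasicoherent_pushforward_of_isAffineHom f
    (CohB1.tensorMod M ((Scheme.Modules.pullback f).obj N))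
  refine H10Coh.FBC.isIso_of_bijective_affine_le (𝟙 Y) _ fun V V' _ hV' _ => ?_
  have hU := hV'.preimage f
  let h := le_refl (f ⁻¹ᵁ V')
  letI := (f.appLE V' _ h).hom.toAlgebra
  let P := (Scheme.Modules.pullback f).obj N
  letI := Module.compHom Γ(P, f ⁻¹ᵁ V') (f.appLE V' _ h).hom
  haveI : IsScalarTower Γ(Y, V') Γ(X, f ⁻¹ᵁ V') Γ(P, f ⁻¹ᵁ V') := .of_algebraMap_smul fun _ _ => rfl
  letI := Module.compHom Γ(M, f ⁻¹ᵁ V') (f.appLE V' _ h).hom
  haveI : IsScalarTower Γ(Y, V') Γ(X, f ⁻¹ᵁ V') Γ(M, f ⁻¹ᵁ V') := .of_algebraMap_smul fun _ _ => rfl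
  have hbc : IsBaseChange Γ(X, f ⁻¹ᵁ V') (pullLin f N h) := isBaseChange_pullLin f N h hN hV' hU
  have happ : f.appLE V' _ h = f.app V' := f.appLE_eq_app
  let M' := (Scheme.Modules.pushforward f).obj M
  let a : Γ(M', V') ≃ₗ[Γ(Y, V')] Γ(M, f ⁻¹ᵁ V') :=
    { AddEquiv.refl Γ(M, f ⁻¹ᵁ V') with
      map_smul' := fun r b => by
        show (show Γ(M, f ⁻¹ᵁ V') from f.app V' r • (show Γ(M, f ⁻¹ᵁ V') from b)) =
          f.appLE V' _ h r • (show Γ(M, f ⁻¹ᵁ V') from b)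
        rw [happ] }
  let e₁ : Γ(M', V') ⊗[Γ(Y, V')] Γ(N, V') ≃+ Γ(M, f ⁻¹ᵁ V') ⊗[Γ(X, f ⁻¹ᵁ V')] Γ(P, f ⁻¹ᵁ V') :=
    ((TensorProduct.congr a (LinearEquiv.refl Γ(Y, V') Γ(N, V'))).toAddEquiv.trans
      (TensorProduct.AlgebraTensorModule.cancelBaseChange Γ(Y, V') Γ(X, f ⁻¹ᵁ V') Γ(X, f ⁻¹ᵁ V')
        Γ(M, f ⁻¹ᵁ V') Γ(N, V')).symm.toAddEquiv).trans
      (TensorProduct.congr (LinearEquiv.refl Γ(X, f ⁻¹ᵁ V') Γ(M, f ⁻¹ᵁ V')) hbc.equiv).toAddEquiv
  have hcomp : ∀ t, (projHom f M N).app V' (LeadBC.mulSect M' N V' t) =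
      LeadBC.mulSect M P (f ⁻¹ᵁ V') (e₁ t) := fun t => by
    induction t using TensorProduct.induction_on with
    | zero =>
      refine (congrArg _ (map_zero (LeadBC.mulSect M' N V'))).trans ?_
      rw [map_zero, map_zero e₁, map_zero]
      rfl
    | add p q hp hq =>
      refine (congrArg _ (map_add (LeadBC.mulSect M' N V') p q)).trans ?_
      refine (map_add ((projHom f M N).app V').hom _ _).trans ?_
      rw [map_add e₁, map_add]
      exact congrArg₂ (· + ·) hp hq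
    | tmul b y =>
      have he : e₁ (b ⊗ₜ y) = (show Γ(M, f ⁻¹ᵁ V') from b) ⊗ₜ[Γ(X, f ⁻¹ᵁ V')] (pullLin f N h y) := by
        show (TensorProduct.congr (LinearEquiv.refl Γ(X, f ⁻¹ᵁ V') Γ(M, f ⁻¹ᵁ V')) hbc.equiv)
          ((TensorProduct.AlgebraTensorModule.cancelBaseChange Γ(Y, V') Γ(X, f ⁻¹ᵁ V') Γ(X, f ⁻¹ᵁ V')
            Γ(M, f ⁻¹ᵁ V') Γ(N, V')).symm (a b ⊗ₜ y)) = _
        rw [TensorProduct.AlgebraTensorModule.cancelBaseChange_symm_tmul, TensorProduct.congr_tmul,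
          IsBaseChange.equiv_tmul, one_smul]
        rfl
      rw [he, LeadBC.mulSect_tmul, LeadBC.mulSect_tmul, projHom_tm, H10Coh.SheafHom.pullLin_self]
  have h2 : Function.Bijective (((projHom f M N).app V') ∘ (LeadBC.mulSect M' N V')) := by
    have : ((projHom f M N).app V') ∘ (LeadBC.mulSect M' N V') = (LeadBC.mulSect M P (f ⁻¹ᵁ V')) ∘ e₁ :=
      funext hcomp
    rw [this]
    exact (LeadBC.bijective_mulSect M P (f ⁻¹ᵁ V') hU).comp e₁.bijective
  exact (Function.Bijective.of_comp_iff ((projHom f M N).app V')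
    (LeadBC.bijective_mulSect M' N V' hV')).1 h2

end Groth.Agent.H14ResProp.ProjAffine
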