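import Groth.Agent.H29Ref.BigOpen
import Groth.Agent.H29Ref.Free
import Groth.Agent.H29Ref.StalkRestrict
import Groth.Agent.S1691
import Groth.Agent.H8Props.FunDescent.Stalk
import Groth.Agent.H29Omega.ConormalStalk
import Groth.Agent.H22Alg.KExists
import Groth.Agent.H8Props.FunDescent.GenericFree
import Groth.Agent.H16Derived.KFlat.PerfNoeth

/-!
# Quotient bundles across punctures at regular points of dimension two
-/

set_option autoImplicit false
set_option maxHeartbeats 400000
set_option linter.style.haveILetI false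

universe u

open CategoryTheory CategoryTheory.Limits AlgebraicGeometry Opposite TopologicalSpace

noncomputable section

namespace Groth.Agent.H14ResProp

variable {X : Scheme.{u}} [IsIntegral X] [IsLocallyNoetherian X]

/-- A coherent module free near a point of depth two extends uniquely across the puncture at that point. -/
theorem isIso_unit_of_free_near (p : X) (U : X.Opens) (hU : ∀ x : X, x ∉ U → x = p) (hpU : p ∉ U)
    (hdep : (2 : ℕ∞) ≤ LocCoh.depth (X.presheaf.stalk p) (X.presheaf.stalk p))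
    (F : X.Modules) (hF : Coh.IsCoh F) (W : X.Opens) (hpW : p ∈ W)
    (hW : ∀ y ∈ W, Module.Free (X.presheaf.stalk y) (F.presheaf.stalk y)) :
    IsIso ((Scheme.Modules.restrictAdjunction U.ι).unit.app F) := by
  haveI : F.IsQuasicoherent := hF.1
  let G : X.Modules := (Scheme.Modules.pushforward U.ι).obj (F.restrict U.ι)
  let η : F ⟶ G := (Scheme.Modules.restrictAdjunction U.ι).unit.app F
  haveI : (F.restrict U.ι).IsQuasicoherent := Scheme.Modules.isQuasicoherent_restrictFunctor _ F
  have hG : Coh.IsQCoh G := H10Coh.isQuasicoherent_pushforward U.ι _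
  refine H29Ref.isIso_of_depth_two η hF hG fun x => ?_
  by_cases hx : x ∈ U
  · left
    show Function.Bijective ((Scheme.Modules.toPresheaf X ⋙ TopCat.Presheaf.stalkFunctor Ab.{u} x).map η)
    refine (ConcreteCategory.isIso_iff_bijective _).1 ?_
    refine (NatIso.isIso_map_iff (Scheme.Modules.restrictStalkNatIso U.ι ⟨x, hx⟩) η).1 ?_
    haveI : IsIso ((Scheme.Modules.restrictFunctor U.ι).map η) := by
      haveI : IsIso ((Scheme.Modules.restrictFunctor U.ι).map η ≫
          (Scheme.Modules.restrictAdjunction U.ι).counit.app ((Scheme.Modules.restrictFunctor U.ι).obj F)) := by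
        rw [(Scheme.Modules.restrictAdjunction U.ι).left_triangle_components]
        infer_instance
      exact IsIso.of_isIso_comp_right _ ((Scheme.Modules.restrictAdjunction U.ι).counit.app _)
    exact Functor.map_isIso (Scheme.Modules.toPresheaf (U : Scheme.{u}) ⋙
      TopCat.Presheaf.stalkFunctor Ab.{u} (⟨x, hx⟩ : (U : Scheme.{u})))
      ((Scheme.Modules.restrictFunctor U.ι).map η)
  · right
    obtain rfl := hU x hx
    haveI := H29Ref.finite_stalk F hF.2 x
    haveI := hW x hpW
    refine ⟨H29Ref.two_le_depth_of_isReflexive _ hdep, fun hass => ?_⟩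
    obtain ⟨-, t, ht⟩ := isAssociatedPrime_iff.mp hass
    obtain ⟨O, hxO, s, rfl⟩ := TopCat.Presheaf.exists_germ_eq G.presheaf t
    have hm : ∃ a ∈ IsLocalRing.maximalIdeal (X.presheaf.stalk x), a ≠ 0 := by
      refine (Submodule.ne_bot_iff _).mp fun hb => ?_
      have h1 : ((LocCoh.depth (X.presheaf.stalk x) (X.presheaf.stalk x) : ℕ∞) : WithBot ℕ∞) ≤ 0 :=
        (H4Depth.depth_le_supportDim.trans (Module.supportDim_le_ringKrullDim _ _)).trans
          (ringKrullDim_eq_zero_of_isField (IsLocalRing.isField_iff_maximalIdeal_eq.mpr hb)).le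
      exact absurd ((WithBot.coe_le_coe.mpr hdep).trans h1) (by decide)
    obtain ⟨a, ha, ha0⟩ := hm
    have h0 := Submodule.mem_colon_singleton.mp (ht.le ha)
    obtain ⟨O', hxO', r, rfl⟩ := TopCat.Presheaf.exists_germ_eq X.presheaf a
    rw [Submodule.mem_bot] at h0
    let O'' := O ⊓ O'
    have hx'' : x ∈ O'' := ⟨hxO, hxO'⟩
    rw [← H29Ref.germ_res G (inf_le_left : O'' ≤ O) x hx'' s,
      ← TopCat.Presheaf.germ_res_apply X.presheaf (homOfLE (inf_le_right : O'' ≤ O')) x hx'' r,
      ← Mero.germ_smul, ← map_zero (G.presheaf.germ O'' x hx'').hom] at h0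
    obtain ⟨V₀, hxV₀, i₁, i₂, h4⟩ := TopCat.Presheaf.germ_eq G.presheaf x hx'' hx'' _ _ h0
    rw [map_zero, Scheme.Modules.map_smul] at h4
    let V := V₀ ⊓ W
    have hxV : x ∈ V := ⟨hxV₀, hpW⟩
    let sW : Γ(F, U.ι ''ᵁ (U.ι ⁻¹ᵁ V₀)) :=
      G.presheaf.map i₁.op (G.presheaf.map (homOfLE (inf_le_left : O'' ≤ O)).op s)
    let rW : Γ(X, U.ι ''ᵁ (U.ι ⁻¹ᵁ V₀)) := X.presheaf.map (homOfLE (U.ι.image_preimage_le V₀)).op
      (X.presheaf.map i₁.op (X.presheaf.map (homOfLE (inf_le_right : O'' ≤ O')).op r))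
    have h5 : rW • sW = 0 := by
      have h5' : ((U.ι.app V₀ ≫ (U.ι.appIso (U.ι ⁻¹ᵁ V₀)).inv)
          (X.presheaf.map i₁.op (X.presheaf.map (homOfLE (inf_le_right : O'' ≤ O')).op r))) • sW = 0 := h4
      rwa [Scheme.Hom.app_appIso_inv] at h5'
    have hVle : U.ι ''ᵁ (U.ι ⁻¹ᵁ V) ≤ U.ι ''ᵁ (U.ι ⁻¹ᵁ V₀) :=
      U.ι.image_mono (U.ι.preimage_mono inf_le_left)
    have h6 : F.presheaf.map (homOfLE hVle).op sW = 0 := by
      refine TopCat.Presheaf.section_ext ((SheafOfModules.toSheaf X.ringCatSheaf).obj F) _ _ _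
        fun y hy => ?_
      show F.presheaf.germ _ y hy _ = F.presheaf.germ _ y hy 0
      rw [H29Ref.germ_res, map_zero]
      haveI := hW y (U.ι.image_preimage_le V hy).2
      haveI : IsDomain (X.presheaf.stalk y) := inferInstance
      have h7 := congrArg (F.presheaf.germ _ y (hVle hy)) h5
      rw [Mero.germ_smul, map_zero] at h7
      refine (smul_eq_zero.mp h7).resolve_left fun h8 => ha0 ?_
      rw [TopCat.Presheaf.germ_res_apply, TopCat.Presheaf.germ_res_apply,
        TopCat.Presheaf.germ_res_apply] at h8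
      have hr : r = 0 := germ_injective_of_isIntegral X y _ (h8.trans (map_zero _).symm)
      rw [hr, map_zero]
    refine (IsLocalRing.maximalIdeal.isMaximal (X.presheaf.stalk x)).ne_top (ht.trans ?_)
    have h9 : G.presheaf.germ O x hxO s = 0 := by
      rw [← H29Ref.germ_res G (inf_le_left : O'' ≤ O) x hx'' s, ← H29Ref.germ_res G i₁.le x hxV₀,
        ← H29Ref.germ_res G (inf_le_left : V ≤ V₀) x hxV]
      exact (congrArg _ (show G.presheaf.map (homOfLE (inf_le_left : V ≤ V₀)).op
        (G.presheaf.map i₁.op (G.presheaf.map (homOfLE (inf_le_left : O'' ≤ O)).op s)) = 0 from h6)).trans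
        (map_zero _)
    rw [h9]
    exact eq_top_iff.mpr fun b _ => Submodule.mem_colon_singleton.mpr (by simp)

/-- A finite locally free module on the puncture at a regular point of dimension two extends. -/
theorem isFinLocFree_pushforward (p : X) (U : X.Opens) (hU : ∀ x : X, x ∉ U → x = p)
    [IsRegularLocalRing (X.presheaf.stalk p)] (hd : ringKrullDim (X.presheaf.stalk p) = 2)
    (E : (U : Scheme.{u}).Modules) (hE : FlatMod.IsFinLocFree E) :
    FlatMod.IsFinLocFree ((Scheme.Modules.pushforward U.ι).obj E) := by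
  have hdep : (2 : ℕ∞) ≤ LocCoh.depth (X.presheaf.stalk p) (X.presheaf.stalk p) := by
    have h := H4Depth.depth_self_eq_ringKrullDim_of_regular (X.presheaf.stalk p)
    rw [hd] at h
    exact le_of_eq (WithBot.coe_injective h).symm
  have hr : ∀ y : (U : Scheme.{u}),
      Module.IsReflexive ((U : Scheme.{u}).presheaf.stalk y) (E.presheaf.stalk y) := by
    intro y
    obtain ⟨n, ⟨b⟩⟩ := H22Alg.KExists.stalk_free hE y
    haveI := Module.Free.of_basis b
    haveI := Module.Finite.of_basis b
    infer_instance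
  obtain ⟨hc, hrefl⟩ := (S1691.result X U (fun x hx => by rw [hU x hx]; exact hdep)).2 E
    (H16Derived.KFlat.Stalk.isCoh_of_isFinLocFree hE) hr
  intro x
  by_cases hx : x ∈ U
  · obtain ⟨n, V, hxV, e⟩ := H29Ref.exists_isFreeOfRankNear_of_restrict
      ((Scheme.Modules.pushforward U.ι).obj E) U
      (H16Derived.KFlat.Stalk.isFinLocFree_of_iso
        ((asIso (Scheme.Modules.restrictAdjunction U.ι).counit).app E).symm hE) x hx
    exact ⟨V, n, hxV, e⟩
  · obtain rfl := hU x hx
    haveI := H29Ref.finite_stalk _ hc.2 x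
    haveI := hrefl x
    haveI : Module.Free (X.presheaf.stalk x)
        (((Scheme.Modules.pushforward U.ι).obj E).presheaf.stalk x) :=
      H29Ref.free_of_isReflexive (R := X.presheaf.stalk x) _ hd.le
    obtain ⟨V, hV, e⟩ := H8Props.FunDescent.isFreeOfRankNear_of_stalkFree_of_isFP _
      (H10Coh.isFP_of_isCoh _ hc) (p := Module.finrank (X.presheaf.stalk x)
        (((Scheme.Modules.pushforward U.ι).obj E).presheaf.stalk x)) (x := x) ⟨Module.finBasis _ _⟩
    exact ⟨V, _, hV, e⟩

/-- A quotient bundle on the puncture gives a bundle mapping onto the module off the point. -/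
theorem exists_locFree_surjective_off (p : X) (U : X.Opens) (hU : ∀ x : X, x ∉ U → x = p) (hpU : p ∉ U)
    [IsRegularLocalRing (X.presheaf.stalk p)] (hd : ringKrullDim (X.presheaf.stalk p) = 2)
    (F : X.Modules) (hF : Coh.IsCoh F)
    (hFp : ∃ W : X.Opens, p ∈ W ∧ FlatMod.IsFinLocFree (F.restrict W.ι))
    (h : ∃ (E : (U : Scheme.{u}).Modules) (π : E ⟶ F.restrict U.ι), FlatMod.IsFinLocFree E ∧ Epi π) :
    ∃ (E : X.Modules) (π : E ⟶ F), FlatMod.IsFinLocFree E ∧
      ∀ x ∈ U, Function.Surjective (H06Mod.stalkLin π x) := by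
  obtain ⟨E, π, hE, hπ⟩ := h
  obtain ⟨W, hpW, hFW⟩ := hFp
  have hdep : (2 : ℕ∞) ≤ LocCoh.depth (X.presheaf.stalk p) (X.presheaf.stalk p) := by
    have h := H4Depth.depth_self_eq_ringKrullDim_of_regular (X.presheaf.stalk p)
    rw [hd] at h
    exact le_of_eq (WithBot.coe_injective h).symm
  haveI := isIso_unit_of_free_near p U hU hpU hdep F hF W hpW fun y hy => by
    obtain ⟨n, h⟩ := H29Ref.exists_isFreeOfRankNear_of_restrict F W hFW y hy
    obtain ⟨b⟩ := H8Props.FunDescent.stalkFree_of_isFreeOfRankNear F hF.1 h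
    exact Module.Free.of_basis b
  let π' : (Scheme.Modules.pushforward U.ι).obj E ⟶ F :=
    (Scheme.Modules.pushforward U.ι).map π ≫ inv ((Scheme.Modules.restrictAdjunction U.ι).unit.app F)
  refine ⟨_, π', isFinLocFree_pushforward p U hU hd E hE, fun x hx => ?_⟩
  haveI : Epi π := hπ
  haveI : Epi ((Scheme.Modules.restrictFunctor U.ι).map ((Scheme.Modules.pushforward U.ι).map π)) := by
    have h := (Scheme.Modules.restrictAdjunction U.ι).counit.naturality π
    simp only [Functor.comp_map, Functor.id_map] at h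
    rw [← IsIso.eq_comp_inv] at h
    rw [h]
    infer_instance
  have h1 : Epi ((Scheme.Modules.restrictFunctor U.ι).map π') := by
    simp only [π', Functor.map_comp]; infer_instance
  let N := Scheme.Modules.restrictStalkNatIso U.ι (⟨x, hx⟩ : (U : Scheme.{u}))
  intro y
  obtain ⟨b, hb⟩ := H06Mod.surjective_stalk_of_epi ((Scheme.Modules.restrictFunctor U.ι).map π') ⟨x, hx⟩
    ((N.app F).inv y)
  refine ⟨(N.app _).hom b, ?_⟩
  have hn := congrArg (fun k => k b) (congrArg (fun k => k.hom) (N.hom.naturality π'))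
  refine hn.symm.trans ?_
  refine (congrArg _ hb).trans ?_
  exact (N.app F).addCommGroupIsoToAddEquiv.apply_symm_apply y

/-- Two bundles covering a module off two different points give a bundle covering it. -/
theorem exists_locFree_epi_of_two {F : X.Modules} {U V : X.Opens} (hUV : ∀ x : X, x ∈ U ∨ x ∈ V)
    (h₁ : ∃ (E : X.Modules) (π : E ⟶ F), FlatMod.IsFinLocFree E ∧
      ∀ x ∈ U, Function.Surjective (H06Mod.stalkLin π x))
    (h₂ : ∃ (E : X.Modules) (π : E ⟶ F), FlatMod.IsFinLocFree E ∧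
      ∀ x ∈ V, Function.Surjective (H06Mod.stalkLin π x)) :
    ∃ (E : X.Modules) (π : E ⟶ F), FlatMod.IsFinLocFree E ∧ Epi π := by
  obtain ⟨E, f, hE, hf⟩ := h₁
  obtain ⟨E', f', hE', hf'⟩ := h₂
  refine ⟨E ⊞ E', biprod.desc f f', H16Derived.KFlat.Stalk.isFinLocFree_biprod hE hE',
    (H8Props.FunDescent.epi_iff _).2 fun x y => ?_⟩
  rcases hUV x with hx | hx
  · obtain ⟨a, rfl⟩ := hf x hx y
    refine ⟨H06Mod.stalkLin biprod.inl x a, ?_⟩
    rw [← H29Omega.stalkLin_comp, biprod.inl_desc]
  · obtain ⟨a, rfl⟩ := hf' x hx y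
    refine ⟨H06Mod.stalkLin biprod.inr x a, ?_⟩
    rw [← H29Omega.stalkLin_comp, biprod.inr_desc]

end Groth.Agent.H14ResProp
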