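import Groth.Agent.H10Coh.SubMod
import Groth.Agent.H10Coh.SpecQCoh
import Groth.Agent.H10Coh.GenHom
import Groth.Agent.H10Coh.BaseChange

/-!
# Sections of quotients of coproducts over affine opens; direct images of generating maps
-/

set_option autoImplicit false
set_option backward.isDefEq.respectTransparency false
set_option linter.style.haveILetI false

noncomputable section

universe u

open CategoryTheory CategoryTheory.Limits AlgebraicGeometry Opposite TopologicalSpace

namespace Groth.Agent.H14ResProp.SigmaSections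

variable {R : CommRingCat.{u}}

theorem eq_zero_of_sections {A B : (Spec R).Modules} [A.IsQuasicoherent] [B.IsQuasicoherent] (h : A ⟶ B)
    (h0 : (moduleSpecΓFunctor (R := R)).map h = 0) : h = 0 := by
  have e : (tilde.functor R).map ((moduleSpecΓFunctor (R := R)).map h) ≫ (H10Coh.tildeIso B).hom =
      (H10Coh.tildeIso A).hom ≫ h :=
    Scheme.Modules.fromTildeΓNatTrans.naturality h
  rw [h0, Functor.map_zero, zero_comp] at e
  exact (cancel_epi (H10Coh.tildeIso A).hom).1 (e.symm.trans comp_zero.symm)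

theorem span_Spec {κ : Type u} (M : κ → (Spec R).Modules) (hM : ∀ k, (M k).IsQuasicoherent)
    {G : (Spec R).Modules} [G.IsQuasicoherent] (p : ∀ k, M k ⟶ G) [Epi (Sigma.desc p)] :
    Submodule.span R {s : (moduleSpecΓFunctor (R := R)).obj G |
      ∃ k a, (moduleSpecΓFunctor (R := R)).map (p k) a = s} = ⊤ := by
  set S := Submodule.span R {s : (moduleSpecΓFunctor (R := R)).obj G |
    ∃ k a, (moduleSpecΓFunctor (R := R)).map (p k) a = s}
  let ΓG : ModuleCat.{u} R := (moduleSpecΓFunctor (R := R)).obj G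
  let Q : ModuleCat.{u} R := ModuleCat.of R ((ΓG : Type u) ⧸ (S : Submodule R ΓG))
  let m : ΓG ⟶ Q := ModuleCat.ofHom (X := ΓG) (S : Submodule R ΓG).mkQ
  let q : G ⟶ (tilde.functor R).obj Q :=
    (H10Coh.tildeIso G).inv ≫ (tilde.functor R).map m
  haveI : ((tilde.functor R).obj Q).IsQuasicoherent :=
    H10Coh.isQuasicoherent_of_iso_tilde (Iso.refl _)
  let adj := tilde.adjunction (R := R)
  have hq : (moduleSpecΓFunctor (R := R)).map q = m ≫ adj.unit.app _ := by
    have h1 : adj.homEquiv _ _ ((tilde.functor R).map m) = m ≫ adj.unit.app _ := by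
      rw [Adjunction.homEquiv_unit]; exact adj.unit_naturality m |>.symm ▸ rfl
    have h2 : (H10Coh.tildeIso G).hom = adj.counit.app G := rfl
    have h3 : adj.unit.app ((moduleSpecΓFunctor (R := R)).obj G) ≫
        (moduleSpecΓFunctor (R := R)).map ((H10Coh.tildeIso G).hom) = 𝟙 _ := by
      rw [h2]; exact adj.right_triangle_components G
    rw [Functor.map_comp, ← h1, Adjunction.homEquiv_unit]
    congr 1
    show _ = adj.unit.app ((moduleSpecΓFunctor (R := R)).obj G)
    haveI : IsIso ((moduleSpecΓFunctor (R := R)).map (H10Coh.tildeIso G).hom) := inferInstance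
    rw [← cancel_mono ((moduleSpecΓFunctor (R := R)).map (H10Coh.tildeIso G).hom), h3, ← Functor.map_comp,
      Iso.inv_hom_id, CategoryTheory.Functor.map_id]
    rfl
  have h0 : q = 0 := by
    rw [← cancel_epi (Sigma.desc p), comp_zero]
    refine Limits.Sigma.hom_ext _ _ fun k => ?_
    rw [Sigma.ι_desc_assoc, comp_zero]
    haveI := hM k
    refine eq_zero_of_sections _ ?_
    rw [Functor.map_comp, hq]
    ext a
    have hz : m ((moduleSpecΓFunctor (R := R)).map (p k) a) = 0 :=
      (Submodule.Quotient.mk_eq_zero S).2 (Submodule.subset_span ⟨k, a, rfl⟩)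
    show adj.unit.app Q (m ((moduleSpecΓFunctor (R := R)).map (p k) a)) = 0
    rw [hz]
    exact map_zero (adj.unit.app _).hom
  have hm : m = 0 := by
    apply (tilde.functor R).map_injective
    rw [Functor.map_zero, ← cancel_epi (H10Coh.tildeIso G).inv, comp_zero]
    exact h0
  refine eq_top_iff.2 fun s _ => (Submodule.Quotient.mk_eq_zero S).1 ?_
  have := congr($hm s)
  exact this

variable {X : Scheme.{u}}

/-- Over an affine open, sections of a quotient of a coproduct of quasi-coherent modules are sums of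
sections coming from the summands. -/
theorem span_affine {κ : Type u} (M : κ → X.Modules) (hM : ∀ k, Coh.IsQCoh (M k))
    {G : X.Modules} (hG : Coh.IsQCoh G) (π : ∐ M ⟶ G) [Epi π] {U : X.Opens} (hU : IsAffineOpen U) :
    Submodule.span Γ(X, U) {s : Γ(G, U) | ∃ k a, (Sigma.ι M k ≫ π).app U a = s} = ⊤ := by
  let F := Scheme.Modules.restrictFunctor hU.fromSpec
  have hUe : hU.fromSpec ''ᵁ ⊤ = U := by
    rw [Scheme.Hom.image_top_eq_opensRange, hU.opensRange_fromSpec]
  suffices h : Submodule.span Γ(X, hU.fromSpec ''ᵁ ⊤)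
      {s : Γ(G, hU.fromSpec ''ᵁ ⊤) | ∃ k a, (Sigma.ι M k ≫ π).app (hU.fromSpec ''ᵁ ⊤) a = s} = ⊤ by
    have key : ∀ W : X.Opens, W = U →
        Submodule.span Γ(X, W) {s : Γ(G, W) | ∃ k a, (Sigma.ι M k ≫ π).app W a = s} = ⊤ →
        Submodule.span Γ(X, U) {s : Γ(G, U) | ∃ k a, (Sigma.ι M k ≫ π).app U a = s} = ⊤ := by
      rintro W rfl h; exact h
    exact key _ hUe h
  haveI : (F.obj G).IsQuasicoherent :=
    @Scheme.Modules.isQuasicoherent_restrictFunctor _ _ hU.fromSpec _ G hG
  have hsig : Sigma.desc (fun k => F.map (Sigma.ι M k ≫ π)) = sigmaComparison F M ≫ F.map π := by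
    refine Limits.Sigma.hom_ext _ _ fun k => ?_
    rw [Sigma.ι_desc, ι_comp_sigmaComparison_assoc, ← Functor.map_comp]
  haveI : Epi (Sigma.desc fun k => F.map (Sigma.ι M k ≫ π)) := by
    haveI : PreservesColimitsOfSize.{u, u} F := inferInstance
    haveI : Epi (F.map π) := F.map_epi π
    rw [hsig]
    infer_instance
  have h := span_Spec (fun k => F.obj (M k))
    (fun k => @Scheme.Modules.isQuasicoherent_restrictFunctor _ _ hU.fromSpec _ (M k) (hM k))
    (fun k => F.map (Sigma.ι M k ≫ π))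
  refine eq_top_iff.2 fun s _ => ?_
  suffices h' : ∀ t : (moduleSpecΓFunctor (R := Γ(X, U))).obj (F.obj G),
      t ∈ Submodule.span Γ(X, U) {s : (moduleSpecΓFunctor (R := Γ(X, U))).obj (F.obj G) |
        ∃ k a, (moduleSpecΓFunctor (R := Γ(X, U))).map (F.map (Sigma.ι M k ≫ π)) a = s} →
      (show Γ(G, hU.fromSpec ''ᵁ ⊤) from t) ∈ Submodule.span Γ(X, hU.fromSpec ''ᵁ ⊤)
        {s : Γ(G, hU.fromSpec ''ᵁ ⊤) | ∃ k a, (Sigma.ι M k ≫ π).app (hU.fromSpec ''ᵁ ⊤) a = s} by
    exact h' s (by rw [h]; trivial)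
  intro t hs
  induction hs using Submodule.span_induction with
  | mem y hy => obtain ⟨k, a, rfl⟩ := hy; exact Submodule.subset_span ⟨k, a, rfl⟩
  | zero => exact zero_mem _
  | add a b _ _ ha hb => exact add_mem ha hb
  | smul r y _ hy =>
    have h1 : (r • y : (moduleSpecΓFunctor (R := Γ(X, U))).obj (F.obj G)) =
        ((hU.fromSpec.appIso ⊤).inv ((Scheme.ΓSpecIso Γ(X, U)).inv r)) •
          (show Γ(G, hU.fromSpec ''ᵁ ⊤) from y) := rfl
    exact h1 ▸ Submodule.smul_mem _ _ hy

variable {Y : Scheme.{u}}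

/-- The direct image under an affine morphism of a generating family of maps is generating. -/
theorem epi_push_desc (f : X ⟶ Y) [IsAffineHom f] {κ : Type u} (M : κ → X.Modules)
    (hM : ∀ k, Coh.IsQCoh (M k)) {G : X.Modules} (hG : Coh.IsQCoh G) (π : ∐ M ⟶ G) [Epi π] :
    Epi (Sigma.desc fun k => (Scheme.Modules.pushforward f).map (Sigma.ι M k ≫ π)) := by
  haveI := hG
  choose U hU hxU _ using fun y : Y => exists_isAffineOpen_mem_and_subset (Opens.mem_top y)
  let P := fun k => (Scheme.Modules.pushforward f).obj (M k)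
  refine H10Coh.epi_of_surjective_on_cover _ (H10Coh.isQuasicoherent_pushforward_of_isAffineHom f G) U hU
    (fun y => ⟨y, hxU y⟩) fun y => ⟨Set.univ, Submodule.span_univ, fun σ _ => ?_⟩
  let V := f ⁻¹ᵁ U y
  have hs : (show Γ(G, V) from σ) ∈
      Submodule.span Γ(X, V) {s : Γ(G, V) | ∃ k a, (Sigma.ι M k ≫ π).app V a = s} := by
    rw [span_affine M hM hG π ((hU y).preimage f)]; trivial
  have key : ∀ s : Γ(G, V), s ∈ Submodule.span Γ(X, V) {s : Γ(G, V) | ∃ k a, (Sigma.ι M k ≫ π).app V a = s} →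
      ∀ r : Γ(X, V), ∃ a, (show Γ(G, V) from (Sigma.desc fun k => (Scheme.Modules.pushforward f).map (Sigma.ι M k ≫ π)).app (U y) a) =
        r • s := by
    intro s hs
    induction hs using Submodule.span_induction with
    | mem z hz =>
      obtain ⟨k, a, rfl⟩ := hz
      intro r
      refine ⟨(Sigma.ι P k).app (U y) (r • a : Γ(M k, V)), ?_⟩
      refine (congr($(congrArg (fun l => Scheme.Modules.Hom.app l (U y))
        (Sigma.ι_desc (fun k => (Scheme.Modules.pushforward f).map (Sigma.ι M k ≫ π)) k))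
        (show Γ(P k, U y) from (r • a : Γ(M k, V))))).trans ?_
      exact Scheme.Modules.Hom.app_smul (Sigma.ι M k ≫ π) r a
    | zero => exact fun r => ⟨0, (map_zero ((Sigma.desc fun k => (Scheme.Modules.pushforward f).map (Sigma.ι M k ≫ π)).app (U y)).hom).trans (smul_zero (A := Γ(G, V)) r).symm⟩
    | add a b _ _ ha hb =>
      intro r
      obtain ⟨a', ha'⟩ := ha r
      obtain ⟨b', hb'⟩ := hb r
      exact ⟨a' + b', (map_add _ _ _).trans ((congrArg₂ (· + ·) ha' hb').trans (smul_add r a b).symm)⟩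
    | smul c z _ hz =>
      intro r
      obtain ⟨a, ha⟩ := hz (r * c)
      exact ⟨a, ha.trans (mul_smul r c z)⟩
  obtain ⟨a, ha⟩ := key _ hs 1
  exact ⟨a, ha.trans (one_smul Γ(X, V) _)⟩

end Groth.Agent.H14ResProp.SigmaSections
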