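import Groth.Agent.LeadResProp.Basic
import Groth.Agent.H14ResProp.SigmaSections
import Groth.Agent.H10Coh.TensorTilde

/-!
# Generating families and finite locally free surjections
-/

set_option autoImplicit false
set_option linter.style.haveILetI false

noncomputable section

universe u

open CategoryTheory CategoryTheory.Limits AlgebraicGeometry Opposite TopologicalSpace

namespace Groth.Agent.H14ResProp.PushGen

variable {X Y : Scheme.{u}}

theorem exists_epi_push (f : X ⟶ Y) (hf : Mor2.IsFinLocFree f) [Surjective f] {N : Y.Modules}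
    (hN : Coh.IsQCoh N) :
    ∃ (G : X.Modules) (e : (Scheme.Modules.pushforward f).obj G ⟶ N), Coh.IsQCoh G ∧ Epi e := by
  haveI := hf.1
  let D := LeadResProp.dualO f
  haveI : D.IsQuasicoherent :=
    H8Props.FinLocFree.isQCoh_of_isFinLocFree _ (LeadResProp.isFinLocFree_dualO hf)
  haveI : N.IsQuasicoherent := hN
  let M := CohB1.tensorMod N D
  have hM : Coh.IsQCoh M := H10Coh.TT.isQCoh_tensorMod N D
  haveI := LeadResProp.isIso_unitTensor f M hM
  haveI := LeadResProp.epi_evalO hf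
  let A := LeadResProp.pushO f
  let c : CohB1.tensorMod A M ≅ CohB1.tensorMod N (CohB1.tensorMod A D) :=
    H10Coh.Tw.commIso _ _ ≪≫ H10Coh.Tw.assoc N D A ≪≫ eqToIso (LeadResProp.tBi N _).symm ≪≫
      ((DCoh.tensorBi (X := Y)).obj N).mapIso (H10Coh.Tw.commIso D A) ≪≫ eqToIso (LeadResProp.tBi N _)
  let v : H16Derived.KFlat.Stalk.tensor N (CohB1.tensorMod A D) ⟶
      H16Derived.KFlat.Stalk.tensor N (Coh.structureModule Y) :=
    ((DCoh.tensorBi (X := Y)).obj N).map (eqToHom (LeadResProp.tBi A D).symm ≫ LeadResProp.evalO f)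
  haveI : Epi v := Functor.map_epi _ _
  exact ⟨(Scheme.Modules.pullback f).obj M,
    inv (LeadResProp.unitTensor f M) ≫ c.hom ≫ eqToHom (LeadResProp.tBi N _).symm ≫ v ≫
      eqToHom (LeadResProp.tBi N _) ≫ (H10Coh.Tw.rightUnitIso N).hom,
    H29Fitt.isQCoh_pullback f M hM, inferInstance⟩

theorem generating_push (f : X ⟶ Y) (hf : Mor2.IsFinLocFree f) [Surjective f]
    {ι : Type u} (E : ι → X.Modules) (hE : ∀ i, Coh.IsQCoh (E i))
    (hgen : ∀ M : X.Modules, Coh.IsQCoh M →
      ∃ (κ : Type u) (j : κ → ι) (π : (∐ fun k : κ => E (j k)) ⟶ M), Epi π)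
    {N : Y.Modules} (hN : Coh.IsQCoh N) :
    ∃ (κ : Type u) (j : κ → ι) (π : (∐ fun k : κ => (Scheme.Modules.pushforward f).obj (E (j k))) ⟶ N),
      Epi π := by
  haveI := hf.1
  obtain ⟨G, e, hG, he⟩ := exists_epi_push f hf hN
  obtain ⟨κ, j, π, hπ⟩ := hgen G hG
  haveI := SigmaSections.epi_push_desc f (fun k => E (j k)) (fun k => hE _) hG π
  exact ⟨κ, j, (Sigma.desc fun k => (Scheme.Modules.pushforward f).map (Sigma.ι (fun k => E (j k)) k ≫ π)) ≫ e,
    epi_comp _ _⟩

end Groth.Agent.H14ResProp.PushGen
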