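import Groth.Agent.H14ResProp.VBWords
import Groth.Agent.H14ResProp.DegOne
import Groth.Agent.H14ResProp.SigmaSections
import Groth.Agent.H11Sym.VBundle
import Groth.Agent.H11Aff.AlgOf
import Groth.Agent.H11Aff.RelSpecUniv
import Groth.Agent.H17.QCAlgSub
import Groth.Agent.H16Derived.KFlat.FlatIff
import Groth.Agent.H10Coh.TensorTilde

/-!
# Vector bundle embeddings and generating families
-/

set_option autoImplicit false
set_option linter.style.haveILetI false

noncomputable section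

universe u

open CategoryTheory CategoryTheory.Limits AlgebraicGeometry Opposite TopologicalSpace
open Groth.Agent.H11Sym

namespace Groth.Agent.H14ResProp.VBCrit

variable {S X : Scheme.{u}}

/-- An algebra map which is surjective over the affine opens gives a closed immersion into the spectrum. -/
theorem exists_closedImmersion (f : X ⟶ S) [IsAffineHom f] (A : RelSpec.QCAlg S)
    (ψ : A ⟶ RelSpec.QCAlg.directImage f) (t : Set S.affineOpens) (ht : ∀ x : S, ∃ U ∈ t, x ∈ U.1)
    (hsurj : ∀ U ∈ t, Function.Surjective (ψ.hom.app (op U.1)).hom) :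
    ∃ i : X ⟶ A.spec, IsClosedImmersion i ∧ i ≫ A.π = f := by
  let ω : AffAlg.algHoms A.π f := ⟨A.gammaMap ≫ ψ.hom, by
    refine (Category.assoc _ _ _).symm.trans ?_
    refine (congrArg (· ≫ ψ.hom) A.π_c_gammaMap).trans ?_
    exact ψ.comm⟩
  obtain ⟨⟨i, hi⟩, hω⟩ := Groth.Agent.H11Aff.algOf_surjective A.π f ω
  refine ⟨i, ?_, hi⟩
  refine IsZariskiLocalAtTarget.of_iSup_eq_top (fun U : t => A.π ⁻¹ᵁ U.1.1) (eq_top_iff.2 fun z _ => ?_)
    fun ⟨U, hUt⟩ => ?_
  · obtain ⟨U, hU, hz⟩ := ht (A.π z)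
    exact Opens.mem_iSup.2 ⟨⟨U, hU⟩, hz⟩
  haveI : IsAffine (A.π ⁻¹ᵁ U.1 : Scheme.{u}) := U.2.preimage A.π
  have hpre : i ⁻¹ᵁ (A.π ⁻¹ᵁ U.1) = f ⁻¹ᵁ U.1 := by rw [← Scheme.Hom.comp_preimage, hi]
  haveI : IsAffine ((i ⁻¹ᵁ (A.π ⁻¹ᵁ U.1) : X.Opens) : Scheme.{u}) := by
    rw [hpre]; exact U.2.preimage f
  refine IsClosedImmersion.of_surjective_of_isAffine _ ?_
  haveI := Groth.Agent.H11Aff.RelSpecUniv.gammaMap_isIso A
  haveI : IsIso (A.gammaMap.app (op U.1)) := inferInstance
  have hs : Function.Surjective (i.appLE (A.π ⁻¹ᵁ U.1) (f ⁻¹ᵁ U.1) hpre.ge).hom := by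
    rw [← Groth.Agent.H11Aff.algHom_app_eq_appLE A.π f i hi U.1,
      show AffAlg.algHom A.π f i hi = ω.1 from congrArg Subtype.val hω]
    exact (hsurj U hUt).comp (ConcreteCategory.bijective_of_isIso (A.gammaMap.app (op U.1))).2
  have key : ∀ (W : X.Opens) (h : i ⁻¹ᵁ (A.π ⁻¹ᵁ U.1) = W),
      Function.Surjective (i.appLE (A.π ⁻¹ᵁ U.1) W h.ge).hom →
        Function.Surjective (i.app (A.π ⁻¹ᵁ U.1)).hom := by
    rintro _ rfl h
    rwa [Scheme.Hom.appLE_eq_app] at h
  have happ := key _ hpre hs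
  have happ' : ∀ (V : A.spec.Opens), V = A.π ⁻¹ᵁ U.1 → Function.Surjective (i.app V).hom := by
    rintro _ rfl; exact happ
  rw [morphismRestrict_appTop]
  show Function.Surjective ((X.presheaf.map _).hom ∘ (i.app _).hom)
  refine Function.Surjective.comp ?_ (happ' _ (Scheme.Opens.ι_image_top _))
  have key3 : ∀ {V W : X.Opens} (h : W = V) (m : op V ⟶ op W), Function.Surjective (X.presheaf.map m).hom := by
    intro V W h m
    subst h
    obtain rfl : m = 𝟙 _ := Subsingleton.elim _ _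
    intro z
    exact ⟨z, by rw [X.presheaf.map_id]; rfl⟩
  exact key3 ((Scheme.Opens.ι_image_top _).trans (congrArg (i ⁻¹ᵁ ·) (Scheme.Opens.ι_image_top (A.π ⁻¹ᵁ U.1)).symm)) _

/-- A closed immersion between relative spectra over the base gives an algebra map surjective over affine opens. -/
theorem exists_surjective_algHom (A B : RelSpec.QCAlg S) (c : B.spec ⟶ A.spec) [IsClosedImmersion c]
    (hc : c ≫ A.π = B.π) :
    ∃ ψ : A ⟶ B, ∀ U : S.Opens, IsAffineOpen U → Function.Surjective (ψ.hom.app (op U)).hom := by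
  haveI := Groth.Agent.H11Aff.RelSpecUniv.gammaMap_isIso A
  haveI := Groth.Agent.H11Aff.RelSpecUniv.gammaMap_isIso B
  refine ⟨⟨H11Aff.RelSpecUniv.univMap A ≫ AffAlg.algHom A.π B.π c hc ≫ B.gammaMap, ?_⟩, fun U hU => ?_⟩
  · rw [← Category.assoc, H11Aff.RelSpecUniv.str_univMap]
    refine (Category.assoc _ _ _).symm.trans ?_
    refine (congrArg (· ≫ B.gammaMap) (AffAlg.algHom_comm A.π B.π c hc)).trans ?_
    exact B.π_c_gammaMap
  · haveI : IsIso ((H11Aff.RelSpecUniv.univMap A).app (op U)) := by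
      unfold H11Aff.RelSpecUniv.univMap
      infer_instance
    haveI : IsIso (B.gammaMap.app (op U)) := inferInstance
    have hle := H11Aff.preimage_le A.π B.π c hc U
    have h2 : Function.Surjective ((AffAlg.algHom A.π B.π c hc).app (op U)).hom := by
      rw [H11Aff.algHom_app_eq_appLE A.π B.π c hc U hle]
      have h3 := c.app_surjective (A.π ⁻¹ᵁ U) (hU.preimage A.π)
      have key : ∀ (W : B.spec.Opens) (h : c ⁻¹ᵁ (A.π ⁻¹ᵁ U) = W),
          Function.Surjective (c.appLE (A.π ⁻¹ᵁ U) W h.ge).hom := by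
        rintro _ rfl; rwa [Scheme.Hom.appLE_eq_app]
      exact key _ (by rw [← Scheme.Hom.comp_preimage, hc])
    exact (ConcreteCategory.bijective_of_isIso (B.gammaMap.app (op U))).2.comp
      (h2.comp (ConcreteCategory.bijective_of_isIso ((H11Aff.RelSpecUniv.univMap A).app (op U))).2)

/-- The images of the summands generate a quotient of the symmetric algebra of a coproduct. -/
theorem generates_of_surjective {κ : Type u} (E : κ → S.Modules) (hE : ∀ k, Coh.IsQCoh (E k))
    (A : RelSpec.QCAlg S) (jA : (∐ E) ⟶ A.toModule) (hA : RelSpec.IsSymAlg (∐ E) A jA)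
    {B : RelSpec.QCAlg S} (ψ : A ⟶ B) {U : S.Opens} (hU : IsAffineOpen U)
    (hψ : Function.Surjective (ψ.hom.app (op U)).hom) :
    VBWords.Generates E (fun k => Sigma.ι E k ≫ jA ≫ RelSpec.QCAlg.Hom.toModuleMap ψ) U := by
  have hEq : Coh.IsQCoh (∐ E) := H10Coh.isQuasicoherent_coproduct E hE
  refine eq_top_iff.2 fun b _ => ?_
  obtain ⟨a, rfl⟩ := hψ b
  letI := algOn A U
  induction a using ((hA.isAffSym hEq) U hU).induction with
  | algebraMap r =>
    exact Subring.subset_closure (Or.inl ⟨r, (ConcreteCategory.congr_hom (NatTrans.congr_app ψ.comm (op U)) r).symm⟩)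
  | ι m =>
    have hm := SigmaSections.span_affine E hE hEq (𝟙 (∐ E)) hU
    have hm' : m ∈ Submodule.span Γ(S, U) {s : Γ(∐ E, U) | ∃ k a, (Sigma.ι E k ≫ 𝟙 (∐ E)).app U a = s} :=
      hm.ge Submodule.mem_top
    induction hm' using Submodule.span_induction with
    | mem y hy =>
      obtain ⟨k, a, rfl⟩ := hy
      refine Subring.subset_closure (Or.inr ⟨k, a, ?_⟩)
      rw [Category.comp_id]
      rfl
    | zero =>
      rw [map_zero]
      show (ψ.hom.app (op U)).hom 0 ∈ _
      rw [map_zero]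
      exact zero_mem _
    | add a b _ _ ha hb =>
      rw [map_add]
      show (ψ.hom.app (op U)).hom (japp jA U a + japp jA U b) ∈ _
      rw [map_add]
      exact add_mem (ha trivial) (hb trivial)
    | smul r a _ ha =>
      show (ψ.hom.app (op U)).hom (japp jA U (r • a)) ∈ _
      rw [H11Sym.japp_smul, map_mul]
      exact mul_mem (Subring.subset_closure (Or.inl
        ⟨r, (ConcreteCategory.congr_hom (NatTrans.congr_app ψ.comm (op U)) r).symm⟩)) (ha trivial)
  | mul a b ha hb => rw [map_mul]; exact mul_mem (ha trivial) (hb trivial)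
  | add a b ha hb => rw [map_add]; exact add_mem (ha trivial) (hb trivial)

/-- A map from a module generating the direct image algebra gives an embedding into the vector bundle. -/
theorem exists_embedding (f : X ⟶ S) [IsAffineHom f] {E : S.Modules} (hE : Coh.IsQCoh E)
    (φ : E ⟶ (RelSpec.QCAlg.directImage f).toModule) (t : Set S.affineOpens) (ht : ∀ x : S, ∃ U ∈ t, x ∈ U.1)
    (hgen : ∀ U ∈ t, Subring.closure (Set.range (astr (RelSpec.QCAlg.directImage f) U.1) ∪
      Set.range (japp φ U.1)) = ⊤) :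
    ∃ (A : RelSpec.QCAlg S) (j : E ⟶ A.toModule) (i : X ⟶ A.spec),
      RelSpec.IsSymAlg E A j ∧ IsClosedImmersion i ∧ i ≫ A.π = f := by
  obtain ⟨A, j₀, hj₀⟩ := H11Sym.exists_affSym E hE
  obtain ⟨ψ, hψ, -⟩ := hj₀.isSymAlg (RelSpec.QCAlg.directImage f) φ
  obtain ⟨i, h1, h2⟩ := exists_closedImmersion f A ψ t ht fun U hU b => by
    have hle : Subring.closure (Set.range (astr (RelSpec.QCAlg.directImage f) U.1) ∪ Set.range (japp φ U.1)) ≤
        (ψ.hom.app (op U.1)).hom.range := by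
      refine Subring.closure_le.2 ?_
      rintro x (⟨r, rfl⟩ | ⟨e, rfl⟩)
      · exact ⟨(A.str.app (op U.1)).hom r, congrArg (fun t => t.app (op U.1) r) ψ.comm⟩
      · exact ⟨(show A.presheaf.obj (op U.1) from j₀.app U.1 e), congrArg (fun t => t.app U.1 e) hψ⟩
    exact hle ((hgen U hU).ge (Subring.mem_top b))
  exact ⟨A, j₀, i, hj₀.isSymAlg, h1, h2⟩

/-- Finitely many members of a covering family generate an algebra of finite type. -/
theorem exists_finite_generating [CompactSpace S] (B : RelSpec.QCAlg S) {κ : Type u} (F : κ → S.Modules)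
    (hF : ∀ k, Coh.IsQCoh (F k)) (π : ∐ F ⟶ B.toModule) [Epi π]
    (hB : ∀ U : S.affineOpens, (B.str.app (op (U : S.Opens))).hom.FiniteType) :
    ∃ (K : Finset κ) (t : Set S.affineOpens), (∀ x : S, ∃ U ∈ t, x ∈ U.1) ∧ ∀ U ∈ t, Subring.closure (Set.range (astr B U.1) ∪
      Set.range (japp ((Sigma.desc fun k : K => Sigma.ι F k.1 ≫ π) : _ ⟶ B.toModule) U.1)) = ⊤ := by
  classical
  obtain ⟨t, ht⟩ := isCompact_univ.elim_finite_subcover (fun U : S.affineOpens => (U.1 : Set S))
    (fun U => U.1.isOpen) (fun x _ => by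
      obtain ⟨U, hU, hxU, -⟩ := exists_isAffineOpen_mem_and_subset (X := S) (x := x) (U := ⊤) trivial
      exact Set.mem_iUnion.2 ⟨⟨U, hU⟩, hxU⟩)
  have hgen : ∀ U : S.affineOpens, ∃ K : Finset κ, ∀ K' : Finset κ, K ⊆ K' →
      Subring.closure (Set.range (astr B U.1) ∪
        Set.range (japp ((Sigma.desc fun k : K' => Sigma.ι F k.1 ≫ π) : _ ⟶ B.toModule) U.1)) = ⊤ := by
    intro U
    letI : Algebra Γ(S, U.1) (B.presheaf.obj (op U.1)) := (astr B U.1).toAlgebra
    haveI : Algebra.FiniteType Γ(S, U.1) (B.presheaf.obj (op U.1)) := hB U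
    obtain ⟨G, hG⟩ := (inferInstance : Algebra.FiniteType Γ(S, U.1) (B.presheaf.obj (op U.1))).out
    have hs := SigmaSections.span_affine F hF (H17.QCAlgSub.isQCoh_toModule B) π U.2
    have hsub : ∀ s : Γ(B.toModule, U.1), ∃ T : Finset Γ(B.toModule, U.1),
        (T : Set Γ(B.toModule, U.1)) ⊆ {s | ∃ k a, (Sigma.ι F k ≫ π).app U.1 a = s} ∧
        s ∈ Submodule.span Γ(S, U.1) (T : Set Γ(B.toModule, U.1)) := fun s =>
      Submodule.mem_span_finite_of_mem_span (hs.ge Submodule.mem_top)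
    choose T hT hT' using hsub
    let T' : Finset Γ(B.toModule, U.1) := G.biUnion fun g => T g
    have hk : ∀ σ : T', ∃ k a, (Sigma.ι F k ≫ π).app U.1 a = σ.1 := fun σ => by
      obtain ⟨g, -, hg⟩ := Finset.mem_biUnion.1 σ.2
      exact hT _ hg
    choose k a hk using hk
    refine ⟨Finset.univ.image k, fun K' hK' => eq_top_iff.2 ?_⟩
    have h := congrArg Subalgebra.toSubring hG
    rw [Algebra.adjoin_eq_ring_closure, Algebra.top_toSubring] at h
    rw [← h]
    refine Subring.closure_le.2 ?_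
    rintro g (⟨r, rfl⟩ | hg)
    · exact Subring.subset_closure (Or.inl ⟨r, rfl⟩)
    have key : ∀ y : Γ(B.toModule, U.1), y ∈ Submodule.span Γ(S, U.1) (T g : Set Γ(B.toModule, U.1)) →
        (show B.presheaf.obj (op U.1) from y) ∈ Subring.closure (Set.range (astr B U.1) ∪
          Set.range (japp ((Sigma.desc fun k : K' => Sigma.ι F k.1 ≫ π) : _ ⟶ B.toModule) U.1)) := by
      intro y hy
      induction hy using Submodule.span_induction with
      | mem y hy =>
        have hy' : y ∈ T' := Finset.mem_biUnion.2 ⟨g, hg, hy⟩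
        let q : K' := ⟨k ⟨y, hy'⟩, hK' (Finset.mem_image.2 ⟨_, Finset.mem_univ _, rfl⟩)⟩
        refine Subring.subset_closure (Or.inr ⟨(Sigma.ι (fun k : K' => F k.1) q).app U.1 (a ⟨y, hy'⟩), ?_⟩)
        refine (congr($(congrArg (fun l => Scheme.Modules.Hom.app l U.1)
          (Sigma.ι_desc (fun k : K' => Sigma.ι F k.1 ≫ π) q)) (a ⟨y, hy'⟩))).trans (hk _)
      | zero => exact (Subring.closure _).zero_mem
      | add a b _ _ ha hb => exact (Subring.closure _).add_mem ha hb
      | smul r a _ ha => exact (Subring.closure _).mul_mem (Subring.subset_closure (Or.inl ⟨r, rfl⟩)) ha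
    exact key _ (hT' g)
  choose K hK using hgen
  refine ⟨t.biUnion K, (t : Set S.affineOpens), fun x => ?_, fun U hU =>
    hK U _ (Finset.subset_biUnion_of_mem K hU)⟩
  obtain ⟨U, hU, hx⟩ := Set.mem_iUnion₂.1 (ht (Set.mem_univ x))
  exact ⟨U, hU, hx⟩

end Groth.Agent.H14ResProp.VBCrit
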