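import Groth.Agent.H11Sym.Extend
import Groth.Agent.H11Tilde.Tensor
import Groth.Agent.H11Ample.Basic
import Groth.Agent.H11Tilde.ProjUP
import Groth.Agent.H10Coh.GenHom
import Groth.Agent.H10Coh.Local
import Groth.Agent.H11Ample.Restrict

/-!
# Modules covered by the words in generators of a quasi-coherent algebra
-/

set_option autoImplicit false
set_option linter.style.haveILetI false

noncomputable section

universe u

open CategoryTheory CategoryTheory.Limits AlgebraicGeometry Opposite TopologicalSpace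
open Groth.Agent.H11Sym Groth.Agent.H11Ample

namespace Groth.Agent.H14ResProp.VBWords

variable {S : Scheme.{u}} {B : RelSpec.QCAlg S}

/-- The product of two maps into an algebra. -/
def mulPairing {M N : S.Modules} (a : M ⟶ B.toModule) (b : N ⟶ B.toModule) :
    H11Tilde.Pairing M N B.toModule where
  toFun U m n := (show Γ(B.toModule, U) from japp a U m * japp b U n)
  add_left U m m' n := by
    show japp a U (m + m') * japp b U n = japp a U m * japp b U n + japp a U m' * japp b U n
    rw [H11Sym.japp_add, add_mul]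
  smul_left U r m n := by
    show japp a U (r • m) * japp b U n = astr B U r * (japp a U m * japp b U n)
    rw [H11Sym.japp_smul, mul_assoc]
  add_right U m n n' := by
    show japp a U m * japp b U (n + n') = japp a U m * japp b U n + japp a U m * japp b U n'
    rw [H11Sym.japp_add, mul_add]
  smul_right U r m n := by
    show japp a U m * japp b U (r • n) = astr B U r * (japp a U m * japp b U n)
    rw [H11Sym.japp_smul, mul_left_comm]
  res U V h m n := by
    show ares B h (japp a U m * japp b U n) = _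
    rw [map_mul, ← H11Sym.japp_res a h m, ← H11Sym.japp_res b h n]

variable {κ : Type u} (E : κ → S.Modules) (φ : ∀ k, E k ⟶ B.toModule)

/-- The tensor product along a nonempty word. -/
def wMod : κ → List κ → S.Modules
  | k, [] => E k
  | k, l :: ls => CohB1.tensorMod (wMod k ls) (E l)

/-- The product along a word. -/
def wMap : ∀ (k : κ) (ls : List κ), wMod E k ls ⟶ B.toModule
  | k, [] => φ k
  | k, l :: ls => H11Tilde.tensorDesc (mulPairing (wMap k ls) (φ l))

theorem wMap_tm (k l : κ) (ls : List κ) (U : S.Opens) (t : Γ(wMod E k ls, U)) (e : Γ(E l, U)) :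
    japp (wMap E φ k (l :: ls)) U (tm t e) = japp (wMap E φ k ls) U t * japp (φ l) U e :=
  H11Ample.tensorDesc_tm (mulPairing (wMap E φ k ls) (φ l)) t e

/-- The functions and the images of the generators generate the sections over `U`. -/
def Generates (U : S.Opens) : Prop :=
  Subring.closure (Set.range (astr B U) ∪ {b | ∃ k e, japp (φ k) U e = b}) = ⊤

theorem mem_span (U : S.Opens) (h : Generates E φ U) (b : Γ(B.toModule, U)) :
    b ∈ Submodule.span Γ(S, U) ({(show Γ(B.toModule, U) from (1 : B.presheaf.obj (op U)))} ∪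
      {b | ∃ (w : κ × List κ) (t : Γ(wMod E w.1 w.2, U)), (wMap E φ w.1 w.2).app U t = b}) := by
  set W := ({(show Γ(B.toModule, U) from (1 : B.presheaf.obj (op U)))} ∪
      {b | ∃ (w : κ × List κ) (t : Γ(wMod E w.1 w.2, U)), (wMap E φ w.1 w.2).app U t = b} : Set Γ(B.toModule, U))
  set P := Submodule.span Γ(S, U) W
  let toP : B.presheaf.obj (op U) → Γ(B.toModule, U) := fun x => x
  let T : Subring (B.presheaf.obj (op U)) :=
    { carrier := {x | ∀ z : B.presheaf.obj (op U), toP z ∈ P → toP (z * x) ∈ P}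
      mul_mem' := fun {x y} hx hy z hz => by rw [← mul_assoc]; exact hy _ (hx z hz)
      one_mem' := fun z hz => by rwa [mul_one]
      add_mem' := fun {x y} hx hy z hz => by rw [mul_add]; exact P.add_mem (hx z hz) (hy z hz)
      zero_mem' := fun z _ => by rw [mul_zero]; exact P.zero_mem
      neg_mem' := fun {x} hx z hz => by rw [mul_neg]; exact P.neg_mem (hx z hz) }
  have hT : Subring.closure (Set.range (astr B U) ∪ {b | ∃ k e, japp (φ k) U e = b}) ≤ T := by
    refine Subring.closure_le.2 ?_
    rintro x (⟨r, rfl⟩ | ⟨k, e, rfl⟩)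
    · intro z hz
      rw [mul_comm]
      exact P.smul_mem r hz
    · intro z hz
      have key : ∀ y : Γ(B.toModule, U), y ∈ P →
          toP ((show B.presheaf.obj (op U) from y) * japp (φ k) U e) ∈ P := by
        intro y hy
        induction hy using Submodule.span_induction with
        | mem y hy =>
          rcases hy with hy | ⟨⟨k', ls⟩, t, rfl⟩
          · rw [Set.mem_singleton_iff] at hy
            subst hy
            show toP (1 * _) ∈ P
            rw [one_mul]
            exact Submodule.subset_span (Or.inr ⟨(k, []), e, rfl⟩)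
          · exact Submodule.subset_span (Or.inr ⟨(k', k :: ls), tm t e, wMap_tm E φ k' k ls U t e⟩)
        | zero => show toP ((0 : B.presheaf.obj (op U)) * _) ∈ P; rw [zero_mul]; exact P.zero_mem
        | add a b _ _ ha hb =>
          show toP (((show B.presheaf.obj (op U) from a) + (show B.presheaf.obj (op U) from b)) * _) ∈ P
          rw [add_mul]
          exact P.add_mem ha hb
        | smul r a _ ha =>
          show toP ((astr B U r * (show B.presheaf.obj (op U) from a)) * _) ∈ P
          rw [mul_assoc]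
          exact P.smul_mem r ha
      exact key _ hz
  have hb := hT (h.ge (Subring.mem_top (show B.presheaf.obj (op U) from b))) 1
    (Submodule.subset_span (Or.inl rfl))
  rwa [one_mul] at hb

theorem span_app_eq_top {M : S.Modules} (p : B.toModule ⟶ M) (U : S.Opens) (h : Generates E φ U)
    (h1 : p.app U (show Γ(B.toModule, U) from (1 : B.presheaf.obj (op U))) = 0)
    (hp : Function.Surjective (p.app U)) :
    Submodule.span Γ(S, U) {s : Γ(M, U) | ∃ (w : κ × List κ) (t : Γ(wMod E w.1 w.2, U)),
      (wMap E φ w.1 w.2 ≫ p).app U t = s} = ⊤ := by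
  refine eq_top_iff.2 fun s _ => ?_
  obtain ⟨b, rfl⟩ := hp s
  have hb := mem_span E φ U h b
  induction hb using Submodule.span_induction with
  | mem y hy =>
    rcases hy with hy | ⟨w, t, rfl⟩
    · rw [Set.mem_singleton_iff] at hy
      subst hy
      rw [h1]
      exact zero_mem _
    · exact Submodule.subset_span ⟨w, t, rfl⟩
  | zero => rw [map_zero]; exact zero_mem _
  | add a b _ _ ha hb => rw [map_add]; exact add_mem (ha trivial) (hb trivial)
  | smul r a _ ha => rw [Scheme.Modules.Hom.app_smul]; exact Submodule.smul_mem _ _ (ha trivial)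

/-- A module which is a quotient of the algebra killing `1` is covered by the words. -/
theorem exists_epi {M : S.Modules} (hM : Coh.IsQCoh M) (p : B.toModule ⟶ M)
    (h : ∀ U : S.Opens, IsAffineOpen U → Generates E φ U)
    (h1 : ∀ U : S.Opens, IsAffineOpen U → p.app U (show Γ(B.toModule, U) from (1 : B.presheaf.obj (op U))) = 0)
    (hp : ∀ U : S.Opens, IsAffineOpen U → Function.Surjective (p.app U)) :
    Epi (Sigma.desc fun w : κ × List κ => wMap E φ w.1 w.2 ≫ p) := by
  refine H10Coh.epi_of_surjective_on_cover _ hM (fun U : S.affineOpens => U.1) (fun U => U.2) (fun x => ?_)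
    fun U => ⟨_, span_app_eq_top E φ p U.1 (h _ U.2) (h1 _ U.2) (hp _ U.2), fun σ ⟨w, t, ht⟩ =>
      ⟨(Sigma.ι (fun w : κ × List κ => wMod E w.1 w.2) w).app U.1 t, ?_⟩⟩
  · obtain ⟨U, hU, hxU, -⟩ := exists_isAffineOpen_mem_and_subset (Opens.mem_top x)
    exact ⟨⟨U, hU⟩, hxU⟩
  · refine (congr($(congrArg (fun l => Scheme.Modules.Hom.app l U.1)
      (Sigma.ι_desc (fun w : κ × List κ => wMap E φ w.1 w.2 ≫ p) w)) t)).trans ht

open Classical in
/-- Finitely many words suffice for a module of finite type on a quasi-compact scheme. -/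
theorem exists_finite_epi [CompactSpace S] {M : S.Modules} (hM : Coh.IsQCoh M) (p : B.toModule ⟶ M)
    (hfin : ∀ U : S.Opens, IsAffineOpen U → Module.Finite Γ(S, U) Γ(M, U))
    (h : ∀ U : S.Opens, IsAffineOpen U → Generates E φ U)
    (h1 : ∀ U : S.Opens, IsAffineOpen U → p.app U (show Γ(B.toModule, U) from (1 : B.presheaf.obj (op U))) = 0)
    (hp : ∀ U : S.Opens, IsAffineOpen U → Function.Surjective (p.app U)) :
    ∃ (n : ℕ) (w : Fin n → κ × List κ),
      Epi (Sigma.desc fun i : Fin n => wMap E φ (w i).1 (w i).2 ≫ p) := by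
  obtain ⟨r, U, hU, -, hcov⟩ := H10Coh.exists_finite_affine_cover (W := (⊤ : S.Opens)) isCompact_univ
  have key : ∀ j, ∃ T : Finset (κ × List κ), ∃ G : Set Γ(M, U j), Submodule.span Γ(S, U j) G = ⊤ ∧
      ∀ σ ∈ G, ∃ w ∈ T, ∃ t, (wMap E φ w.1 w.2 ≫ p).app (U j) t = σ := by
    intro j
    haveI := hfin _ (hU j)
    obtain ⟨g, hg⟩ := (Module.Finite.fg_top : (⊤ : Submodule Γ(S, U j) Γ(M, U j)).FG)
    have hs := span_app_eq_top E φ p (U j) (h _ (hU j)) (h1 _ (hU j)) (hp _ (hU j))
    have hsub : ∀ s ∈ g, ∃ G : Finset Γ(M, U j), (G : Set Γ(M, U j)) ⊆ {s : Γ(M, U j) |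
        ∃ (w : κ × List κ) (t : Γ(wMod E w.1 w.2, U j)), (wMap E φ w.1 w.2 ≫ p).app (U j) t = s} ∧
        s ∈ Submodule.span Γ(S, U j) (G : Set Γ(M, U j)) := fun s _ =>
      Submodule.mem_span_finite_of_mem_span (hs.ge Submodule.mem_top)
    choose G hG hG' using hsub
    let G' : Finset Γ(M, U j) := g.attach.biUnion fun s => G s.1 s.2
    have hw : ∀ σ : G', ∃ w : κ × List κ, ∃ t, (wMap E φ w.1 w.2 ≫ p).app (U j) t = σ.1 := fun σ => by
      obtain ⟨s, -, hs'⟩ := Finset.mem_biUnion.1 σ.2
      exact hG s.1 s.2 hs'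
    choose w hw using hw
    refine ⟨Finset.univ.image w, (G' : Set Γ(M, U j)), ?_, fun σ hσ => ⟨w ⟨σ, hσ⟩,
      Finset.mem_image.2 ⟨_, Finset.mem_univ _, rfl⟩, hw ⟨σ, hσ⟩⟩⟩
    rw [eq_top_iff, ← hg, Submodule.span_le]
    intro s hs'
    refine Submodule.span_mono ?_ (hG' s hs')
    intro x hx
    exact Finset.mem_biUnion.2 ⟨⟨s, hs'⟩, Finset.mem_attach _ _, hx⟩
  choose T G hG hT using key
  let W : Finset (κ × List κ) := Finset.univ.biUnion T
  let w : Fin W.card → κ × List κ := fun i => (W.equivFin.symm i).1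
  refine ⟨W.card, w, H10Coh.epi_of_surjective_on_cover _ hM U hU (fun x => Opens.mem_iSup.1 (hcov.ge trivial))
    fun j => ⟨G j, hG j, fun σ hσ => ?_⟩⟩
  obtain ⟨v, hv, t, ht⟩ := hT j σ hσ
  have hvW : v ∈ W := Finset.mem_biUnion.2 ⟨j, Finset.mem_univ _, hv⟩
  obtain ⟨i, hi⟩ : ∃ i, w i = v := ⟨W.equivFin ⟨v, hvW⟩, by simp [w]⟩
  subst hi
  exact ⟨(Sigma.ι (fun i => wMod E (w i).1 (w i).2) i).app (U j) t,
    (congr($(congrArg (fun l => Scheme.Modules.Hom.app l (U j))
      (Sigma.ι_desc (fun i => wMap E φ (w i).1 (w i).2 ≫ p) i)) t)).trans ht⟩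

end Groth.Agent.H14ResProp.VBWords
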